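import Cfsg.Agent.FA.Loc
import Cfsg.Agent.FA.O6

set_option autoImplicit false
set_option maxRecDepth 100000
set_option Elab.async false

namespace Cfsg.Agent.FA.A72

open Cfsg.Agent.FM hiding Pts Mdl testBit_fixOf
open Cfsg.Agent.FA

def ql7 : List (ℕ × ℕ × ℕ) := [(0, 1, 1), (2, 3, 1), (4, 5, 1), (6, 6, 1)]
noncomputable def z2 : ℕ := nat_lit 0x400000000804000080000000210000000000000080002000200042000000000804000001000010800000000080000180000000000004000010000000040000000000000000000000008000000000000040400800000000000080000000000080400000000000008400000800000000900000200000004000030380000000000000000220800000200000000000000000000000000000000200000000000000000000200000020000000000000100000051000002000008024000100006200000000800000000100002000300048000000000000000000000000000000000008000000000000000000000100000000000000000800000000242000000200020000000000000000000000400008001000000000000000000000000001681000000000800008008008000050000000000000000000040000000010000000000000000000000000000000102200100000000000800000000801000000000000008000001000a000000000400000000000200000000004010200000008000000000000000000001000000800000000000080800000000402400000040008000000000000000000420800000000000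
noncomputable def pf (y : ℕ) : ℕ := Nat.land (Nat.shiftRight (nat_lit 0xd9eb213653ad00000000092e0000000002e600000000049700000000000049575444100017c1779780000b825f49f35900000000000081052548b00074e7a218b0008126dc0d2d650000000000002dd74f8490005816531cf0002f9380000d2e0000000000008ad5cf7e80000a517a92d00008106d3600003585977eb89a00000000074d0000000005bc00000000000065a49488c65900000000017800000000004c000000000000d8162a2d540000000000001f00000000001e000000000) (Nat.mul (nat_lit 12) y)) (nat_lit 4095)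
def zm : ℕ := nat_lit 0x78888777877787768777788878887888
theorem z_dis : disChk cdA (2 ^ 7) zm (fun y => sgl (pf y)) = true := by decide +kernel
theorem z_span : spanChk 2 7 zm [[nat_lit 48, nat_lit 49], [nat_lit 48, nat_lit 50], [nat_lit 7, nat_lit 3], [nat_lit 11, nat_lit 3], [nat_lit 19, nat_lit 3], [nat_lit 35, nat_lit 3], [nat_lit 68, nat_lit 7, nat_lit 3]] = true := by decide +kernel
def yk : List ℕ := [nat_lit 3, nat_lit 49, nat_lit 7, nat_lit 12, nat_lit 19, nat_lit 74]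
def kL : List ℕ := [nat_lit 30, nat_lit 109, nat_lit 31, nat_lit 725, nat_lit 76, nat_lit 733]
def oW : List (List ℕ) := [[nat_lit 293, nat_lit 334], [nat_lit 1023, nat_lit 2434], [nat_lit 36, nat_lit 329], [nat_lit 728, nat_lit 2425], [nat_lit 13, nat_lit 30], [nat_lit 1834, nat_lit 3141]]
def eX : List Ex := [.mul (.w [nat_lit 32]) (.ps [nat_lit 13])]
noncomputable def eZ : List ℕ := []
def eW : List (List ℕ) := [[nat_lit 1468], [nat_lit 76], [nat_lit 13], [nat_lit 376], [nat_lit 463], [nat_lit 725], [nat_lit 31], [nat_lit 109]]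
def eT : Ex := .w [nat_lit 32]
theorem e_lt : Fi.lall cdA.ltL eW = true := by decide +kernel
theorem e_l0 : cdA.lvlX [] eX eZ
    []
    (.fix (nat_lit 0))
    (.cnt (.var) (.fix (nat_lit 0)) (nat_lit 32) (.tt)) 30 [nat_lit 13] []
    (pick (lmap .ps eW) [nat_lit 0, nat_lit 1, nat_lit 3, nat_lit 4, nat_lit 5, nat_lit 6, nat_lit 7]) (.stk [nat_lit 7, nat_lit 6, nat_lit 5, nat_lit 3, nat_lit 1, nat_lit 2, nat_lit 4, nat_lit 5, nat_lit 3, nat_lit 1, nat_lit 6, nat_lit 5, nat_lit 3, nat_lit 4, nat_lit 5, nat_lit 6, nat_lit 0, nat_lit 7, nat_lit 0, nat_lit 0, nat_lit 7, nat_lit 6, nat_lit 0, nat_lit 0, nat_lit 0, nat_lit 7, nat_lit 6, nat_lit 5, nat_lit 0, nat_lit 0, nat_lit 0, nat_lit 0, nat_lit 4, nat_lit 7, nat_lit 6, nat_lit 5, nat_lit 0, nat_lit 0, nat_lit 0, nat_lit 0, nat_lit 7, nat_lit 6, nat_lit 0, nat_lit 0, nat_lit 0, nat_lit 7, nat_lit 0, nat_lit 0, nat_lit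 0, nat_lit 6, nat_lit 5, nat_lit 4, nat_lit 7, nat_lit 6, nat_lit 5, nat_lit 3, nat_lit 0, nat_lit 0, nat_lit 0, nat_lit 0, nat_lit 0, nat_lit 7, nat_lit 6, nat_lit 0, nat_lit 0, nat_lit 0, nat_lit 7, nat_lit 0, nat_lit 0, nat_lit 0, nat_lit 6, nat_lit 7, nat_lit 0, nat_lit 0, nat_lit 0, nat_lit 0, nat_lit 0, nat_lit 4, nat_lit 5, nat_lit 3, nat_lit 6, nat_lit 5, nat_lit 4, nat_lit 7, nat_lit 6, nat_lit 5, nat_lit 3, nat_lit 1, nat_lit 0, nat_lit 0, nat_lit 0, nat_lit 0, nat_lit 0, nat_lit 0, nat_lit 7, nat_lit 6, nat_lit 0, nat_lit 0, nat_lit 0, nat_lit 7, nat_lit 0, nat_lit 0, nat_lit 0, nat_lit 6, nat_lit 7, nat_lit 0, nat_lit 0, nat_lit 0, nat_lit 0, nat_lit 0, nat_lit 4, nat_lit 5, nat_lit 6, nat_lit 7, nat_lit 0, nat_lit 0, nat_lit 0, nat_lit 0, nat_lit 0, nat_lit 4]) 63 = true := by decide +kernel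
theorem e_l1 : cdA.lvlX [nat_lit 30] eX eZ
    []
    (.dif (.fix (nat_lit 0)) (.adj (nat_lit 0)))
    (.tt) 109 [] []
    (pick (lmap .ps eW) [nat_lit 0, nat_lit 1, nat_lit 3, nat_lit 4, nat_lit 5, nat_lit 6]) (.stk [nat_lit 6, nat_lit 5, nat_lit 3, nat_lit 1, nat_lit 2, nat_lit 4, nat_lit 5, nat_lit 3, nat_lit 1, nat_lit 6, nat_lit 5, nat_lit 3, nat_lit 4, nat_lit 5, nat_lit 6, nat_lit 0, nat_lit 0, nat_lit 0, nat_lit 0, nat_lit 4, nat_lit 0, nat_lit 0, nat_lit 0, nat_lit 0, nat_lit 6, nat_lit 5, nat_lit 4, nat_lit 0, nat_lit 0, nat_lit 0, nat_lit 0, nat_lit 6, nat_lit 0, nat_lit 0, nat_lit 0, nat_lit 0, nat_lit 4, nat_lit 5, nat_lit 3, nat_lit 6, nat_lit 5, nat_lit 4, nat_lit 0, nat_lit 0, nat_lit 0, nat_lit 0, nat_lit 6, nat_lit 0, nat_lit 0, nat_lit 0, nat_lit 0, nat_lit 4, nat_lit 5, nat_lit 6, nat_lit 0, nat_lit 0, nat_lit 0, nat_lit 0, nat_lit 4]) 32 = true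 := by decide +kernel
theorem e_l2 : cdA.lvlX [nat_lit 109, nat_lit 30] eX eZ
    []
    (.dif (.dif (.and (.adj (nat_lit 1)) (.fix (nat_lit 0))) (.adj (nat_lit 0))) (.one (nat_lit 1)))
    (.tt) 31 [] []
    (pick (lmap .ps eW) [nat_lit 0, nat_lit 1, nat_lit 3, nat_lit 4, nat_lit 5]) (.stk [nat_lit 5, nat_lit 3, nat_lit 1, nat_lit 2, nat_lit 4, nat_lit 5, nat_lit 3, nat_lit 1, nat_lit 0, nat_lit 0, nat_lit 0, nat_lit 0, nat_lit 0, nat_lit 4, nat_lit 5, nat_lit 3, nat_lit 0, nat_lit 0, nat_lit 0, nat_lit 0, nat_lit 4, nat_lit 5, nat_lit 0, nat_lit 0, nat_lit 0, nat_lit 4]) 15 = true := by decide +kernel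
theorem e_l3 : cdA.lvlX [nat_lit 31, nat_lit 109, nat_lit 30] eX eZ
    []
    (.dif (.and (.adj (nat_lit 2)) (.and (.adj (nat_lit 1)) (.fix (nat_lit 0)))) (.adj (nat_lit 0)))
    (.tt) 725 [] []
    (pick (lmap .ps eW) [nat_lit 0, nat_lit 1, nat_lit 3, nat_lit 4]) (.stk [nat_lit 3, nat_lit 1, nat_lit 2, nat_lit 4, nat_lit 0, nat_lit 0, nat_lit 4, nat_lit 0, nat_lit 0, nat_lit 4, nat_lit 0, nat_lit 0, nat_lit 4]) 8 = true := by decide +kernel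
theorem e_l4 : cdA.lvlX [nat_lit 725, nat_lit 31, nat_lit 109, nat_lit 30] eX eZ
    []
    (.dif (.and (.adj (nat_lit 3)) (.and (.adj (nat_lit 2)) (.and (.adj (nat_lit 1)) (.adj (nat_lit 0))))) (.fix (nat_lit 0)))
    (.tt) 15 [] []
    (pick (lmap .ps eW) [nat_lit 0, nat_lit 1, nat_lit 2]) (.stk [nat_lit 2, nat_lit 1, nat_lit 3, nat_lit 0, nat_lit 0, nat_lit 3, nat_lit 0, nat_lit 0, nat_lit 3]) 6 = true := by decide +kernel
theorem e_l5 : lvlO cdA [nat_lit 15, nat_lit 725, nat_lit 31, nat_lit 109, nat_lit 30] eX eZ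
    [.app (nat_lit 0) (.pt (nat_lit 0))]
    (.dif (.and (.adj (nat_lit 3)) (.and (.adj (nat_lit 4)) (.and (.adj (nat_lit 2)) (.and (.adj (nat_lit 0)) (.adj (nat_lit 1)))))) (.fix (nat_lit 0)))
    (.tt) 10 []
    (pick (lmap .ps eW) [nat_lit 0]) (.stk [nat_lit 1]) 2 eT = true := by decide +kernel
theorem e_l6 : cdA.lvlX [nat_lit 10, nat_lit 15, nat_lit 725, nat_lit 31, nat_lit 109, nat_lit 30] eX eZ
    [.app (nat_lit 0) (.pt (nat_lit 0)), .app (nat_lit 0) (.pt (nat_lit 2)), .tr (.pt (nat_lit 4)) (.pt (nat_lit 5)), .tr (.pt (nat_lit 8)) (.pt (nat_lit 2)), .tr (.pt (nat_lit 8)) (.pt (nat_lit 1)), .tr (.pt (nat_lit 1)) (.pt (nat_lit 0))]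
    (.dif (.dif (.dif (.and (.adj (nat_lit 0)) (.and (.adj (nat_lit 10)) (.and (.adj (nat_lit 11)) (.adj (nat_lit 6))))) (.adj (nat_lit 8))) (.adj (nat_lit 7))) (.adj (nat_lit 4)))
    (.tt) 0 [] []
    (pick (lmap .ps eW) []) (.simd []) 1 = true := by decide +kernel
theorem e_b : (cdA.ltL [nat_lit 0, nat_lit 10, nat_lit 15, nat_lit 725, nat_lit 31, nat_lit 109, nat_lit 30] && subL cdA.bs (cdA.ext ⟨[nat_lit 0, nat_lit 10, nat_lit 15, nat_lit 725, nat_lit 31, nat_lit 109, nat_lit 30], eX, eZ⟩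
    [.app (nat_lit 0) (.pt (nat_lit 0)), .app (nat_lit 0) (.pt (nat_lit 2)), .app (nat_lit 0) (.pt (nat_lit 4)), .tr (.pt (nat_lit 3)) (.pt (nat_lit 5)), .tr (.pt (nat_lit 4)) (.pt (nat_lit 7)), .tr (.pt (nat_lit 5)) (.pt (nat_lit 9)), .tr (.pt (nat_lit 10)) (.pt (nat_lit 11)), .tr (.pt (nat_lit 8)) (.pt (nat_lit 6)), .tr (.pt (nat_lit 12)) (.pt (nat_lit 4)), .tr (.pt (nat_lit 8)) (.pt (nat_lit 5)), .tr (.pt (nat_lit 7)) (.pt (nat_lit 4)), .tr (.pt (nat_lit 17)) (.pt (nat_lit 4)), .tr (.pt (nat_lit 7)) (.pt (nat_lit 4)), .tr (.pt (nat_lit 12)) (.pt (nat_lit 4)), .tr (.pt (nat_lit 12)) (.pt (nat_lit 4)), .tr (.pt (nat_lit 14)) (.pt (nat_lit 4)), .tr (.pt (nat_lit 17)) (.pt (nat_lit 4)), .tr (.pt (nat_lit 14)) (.pt (nat_lit 4)), .tr (.pt (nat_lit 15)) (.pt (nat_lit 4)), .tr (.pt (nat_lit 14)) (.pt (nat_lit 4)), .tr (.pt (nat_lit 16)) (.pt (nat_lit 4)), .tr (.pt (nat_lit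 16)) (.pt (nat_lit 4)), .tr (.pt (nat_lit 22)) (.pt (nat_lit 4)), .tr (.pt (nat_lit 18)) (.pt (nat_lit 4)), .app (nat_lit 0) (.pt (nat_lit 4)), .tr (.pt (nat_lit 28)) (.pt (nat_lit 4)), .app (nat_lit 0) (.pt (nat_lit 4)), .tr (.pt (nat_lit 26)) (.pt (nat_lit 4)), .tr (.pt (nat_lit 26)) (.pt (nat_lit 4)), .tr (.pt (nat_lit 25)) (.pt (nat_lit 4)), .tr (.pt (nat_lit 29)) (.pt (nat_lit 4)), .tr (.pt (nat_lit 33)) (.pt (nat_lit 4)), .tr (.pt (nat_lit 38)) (.pt (nat_lit 3)), .tr (.pt (nat_lit 31)) (.pt (nat_lit 2)), .tr (.pt (nat_lit 31)) (.pt (nat_lit 1))])) = true := by decide +kernel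
theorem e_res {G : Type*} [Group G] [Finite G] {D : Set G} {β : ℕ → G} {A : Mdl (MulAut G) (MulAut.conj '' D) cdA}
    (h : AM D β A) {H : Subgroup (MulAut G)} (hH : A.Stab H eX eZ) (hG : ∀ a ∈ (lmap .ps eW), A.ev a ∈ H) (hT : A.ev eT ∈ H) :
    Res (H ⊓ Inn G ⊓ A.FixL []) (A.clo (lmap .ps eW)) 2903040 :=
  have hH' := hH.mono (inf_le_left (b := Inn G))
  have hI := h.clo_le_inn e_lt
  have hG' : ∀ a ∈ (lmap .ps eW), A.ev a ∈ H ⊓ Inn G := fun a ha => ⟨hG a ha, hI (A.mem_clo ha)⟩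
  Mdl.step hH' (Mdl.pick_mem hG' _) e_l0 <|
  Mdl.step hH' (Mdl.pick_mem hG' _) e_l1 <|
  Mdl.step hH' (Mdl.pick_mem hG' _) e_l2 <|
  Mdl.step hH' (Mdl.pick_mem hG' _) e_l3 <|
  Mdl.step hH' (Mdl.pick_mem hG' _) e_l4 <|
  Mdl.stepO hH hI (Mdl.pick_mem hG _) hT (h.s_not_mem) e_l5 <|
  Mdl.step hH (Mdl.pick_mem hG _) e_l6 <|
  Mdl.base hH _ (by decide) e_b
theorem e_hs : Fi.lall (hsChk cdA eX eZ) (eT :: lmap .ps eW) = true := by decide +kernel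
theorem e_fx : (cdA.ltL [] && cdA.allFix (lmap .ps eW) []) = true := by decide +kernel
theorem e_G {G : Type*} [Group G] [Finite G] {D : Set G} {β : ℕ → G} {A : Mdl (MulAut G) (MulAut.conj '' D) cdA}
    (h : AM D β A) :
    GH A eX eZ [] = pcl β eW ∧ Nat.card (pcl β eW) = 2903040 :=
  have k := List.forall_mem_cons.1 (Mdl.all_HS (M := A) e_hs)
  h.finI e_lt k.2 e_fx (e_res h Mdl.stab_HS k.2 k.1)
def pX : List Ex := [.mul (.w [nat_lit 32]) (.ps [nat_lit 13])]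
noncomputable def pZ : List ℕ := [z2]
def pW : List (List ℕ) := [[nat_lit 845, nat_lit 1038], [nat_lit 0, nat_lit 715, nat_lit 758], [nat_lit 67, nat_lit 1568], [nat_lit 585, nat_lit 715], [nat_lit 799, nat_lit 0, nat_lit 863, nat_lit 1219], [nat_lit 95, nat_lit 668], [nat_lit 456, nat_lit 2264]]
def pT : Ex := .mul (.w [nat_lit 32]) (.ps [nat_lit 104, nat_lit 1073, nat_lit 1477])
theorem p_lt : Fi.lall cdA.ltL pW = true := by decide +kernel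
theorem p_l0 : cdA.lvlX [] pX pZ
    []
    (.env (nat_lit 0))
    (.tt) 47 [] []
    (pick (lmap .ps pW) [nat_lit 0, nat_lit 2, nat_lit 3, nat_lit 5, nat_lit 6]) (.stk [nat_lit 5, nat_lit 1, nat_lit 2, nat_lit 4, nat_lit 1, nat_lit 3, nat_lit 5, nat_lit 0, nat_lit 0, nat_lit 0, nat_lit 3, nat_lit 1, nat_lit 4, nat_lit 0, nat_lit 0, nat_lit 2, nat_lit 0, nat_lit 4, nat_lit 2, nat_lit 0, nat_lit 0, nat_lit 0, nat_lit 5, nat_lit 3, nat_lit 0, nat_lit 4, nat_lit 0, nat_lit 0, nat_lit 0, nat_lit 5, nat_lit 1, nat_lit 2, nat_lit 0, nat_lit 4, nat_lit 0, nat_lit 0, nat_lit 2, nat_lit 1, nat_lit 0, nat_lit 4, nat_lit 3, nat_lit 0, nat_lit 0, nat_lit 0, nat_lit 4, nat_lit 0, nat_lit 0, nat_lit 0, nat_lit 4, nat_lit 3, nat_lit 4, nat_lit 5, nat_lit 0, nat_lit 0, nat_lit 5, nat_lit 3, nat_lit 0, nat_lit 4, nat_lit 0, nat_lit 0, nat_lit 0, nat_lit 5, nat_lit 2, nat_lit 4,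 nat_lit 0, nat_lit 5, nat_lit 0, nat_lit 0, nat_lit 3, nat_lit 0, nat_lit 0, nat_lit 0, nat_lit 0, nat_lit 2, nat_lit 1, nat_lit 4, nat_lit 3, nat_lit 4, nat_lit 5, nat_lit 0, nat_lit 0, nat_lit 5, nat_lit 0, nat_lit 0, nat_lit 0, nat_lit 5, nat_lit 1, nat_lit 4, nat_lit 0, nat_lit 0, nat_lit 2, nat_lit 0, nat_lit 4, nat_lit 3, nat_lit 0, nat_lit 0, nat_lit 0, nat_lit 0, nat_lit 4, nat_lit 1, nat_lit 2, nat_lit 0, nat_lit 4, nat_lit 0, nat_lit 5, nat_lit 0, nat_lit 0, nat_lit 2, nat_lit 4, nat_lit 0, nat_lit 5, nat_lit 2, nat_lit 0, nat_lit 0, nat_lit 0, nat_lit 5, nat_lit 1, nat_lit 2, nat_lit 4, nat_lit 0, nat_lit 0, nat_lit 0, nat_lit 2, nat_lit 1, nat_lit 0, nat_lit 4, nat_lit 0, nat_lit 5, nat_lit 0, nat_lit 0, nat_lit 3, nat_lit 2, nat_lit 0, nat_lit 0, nat_lit 0, nat_lit 0, nat_lit 5, nat_lit 1, nat_lit 3, nat_lit 0, nat_lit 0, nat_lit 3, nat_lit 0, nat_lit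 0, nat_lit 0, nat_lit 3, nat_lit 1, nat_lit 4, nat_lit 5, nat_lit 0, nat_lit 0, nat_lit 0, nat_lit 2, nat_lit 0, nat_lit 4, nat_lit 2, nat_lit 3, nat_lit 0, nat_lit 5, nat_lit 3, nat_lit 0, nat_lit 4, nat_lit 0, nat_lit 0, nat_lit 0, nat_lit 3, nat_lit 1, nat_lit 5, nat_lit 0, nat_lit 0, nat_lit 2, nat_lit 4, nat_lit 0, nat_lit 5, nat_lit 0, nat_lit 0, nat_lit 0, nat_lit 5, nat_lit 1, nat_lit 0, nat_lit 3, nat_lit 0, nat_lit 4, nat_lit 2, nat_lit 0, nat_lit 3, nat_lit 0, nat_lit 0, nat_lit 0, nat_lit 0, nat_lit 5, nat_lit 4, nat_lit 1, nat_lit 3, nat_lit 0, nat_lit 4, nat_lit 0, nat_lit 0, nat_lit 0, nat_lit 0, nat_lit 0, nat_lit 4, nat_lit 2, nat_lit 1, nat_lit 4, nat_lit 0, nat_lit 5, nat_lit 4, nat_lit 1, nat_lit 0, nat_lit 0, nat_lit 0, nat_lit 0, nat_lit 3, nat_lit 0, nat_lit 4, nat_lit 0, nat_lit 5, nat_lit 1, nat_lit 0, nat_lit 2, nat_lit 0, nat_lit 3, nat_lit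 0, nat_lit 0, nat_lit 0, nat_lit 3, nat_lit 1, nat_lit 4, nat_lit 0, nat_lit 0, nat_lit 5, nat_lit 1]) 120 = true := by decide +kernel
theorem p_l1 : cdA.lvlX [nat_lit 47] pX pZ
    [.app (nat_lit 0) (.pt (nat_lit 0))]
    (.and (.adj (nat_lit 0)) (.adj (nat_lit 1)))
    (.tt) 0 [] []
    (pick (lmap .ps pW) [nat_lit 0, nat_lit 2, nat_lit 3, nat_lit 5]) (.stk [nat_lit 4, nat_lit 1, nat_lit 2, nat_lit 1, nat_lit 2, nat_lit 0, nat_lit 0, nat_lit 3, nat_lit 4, nat_lit 1, nat_lit 3, nat_lit 2, nat_lit 0, nat_lit 0, nat_lit 4, nat_lit 3, nat_lit 0, nat_lit 0, nat_lit 0, nat_lit 2, nat_lit 1, nat_lit 0, nat_lit 4, nat_lit 0, nat_lit 0, nat_lit 3, nat_lit 2, nat_lit 0, nat_lit 4, nat_lit 0, nat_lit 0, nat_lit 0, nat_lit 0, nat_lit 4, nat_lit 1, nat_lit 3, nat_lit 4, nat_lit 1, nat_lit 0, nat_lit 3, nat_lit 2, nat_lit 0, nat_lit 0, nat_lit 0, nat_lit 0, nat_lit 0, nat_lit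 2, nat_lit 3, nat_lit 0, nat_lit 0, nat_lit 3, nat_lit 1, nat_lit 0, nat_lit 4, nat_lit 1, nat_lit 0, nat_lit 0, nat_lit 0, nat_lit 0, nat_lit 0, nat_lit 3, nat_lit 1, nat_lit 0, nat_lit 2, nat_lit 4, nat_lit 1, nat_lit 2, nat_lit 3, nat_lit 0, nat_lit 0, nat_lit 4, nat_lit 2, nat_lit 0, nat_lit 0, nat_lit 0, nat_lit 2, nat_lit 3, nat_lit 0, nat_lit 4, nat_lit 0, nat_lit 0, nat_lit 3, nat_lit 1, nat_lit 0, nat_lit 4, nat_lit 0, nat_lit 0, nat_lit 0, nat_lit 0, nat_lit 4, nat_lit 1, nat_lit 2, nat_lit 4, nat_lit 1, nat_lit 0, nat_lit 2, nat_lit 0, nat_lit 0, nat_lit 0, nat_lit 0, nat_lit 2, nat_lit 1, nat_lit 0, nat_lit 4, nat_lit 1, nat_lit 0, nat_lit 0, nat_lit 0, nat_lit 3, nat_lit 2, nat_lit 0, nat_lit 0, nat_lit 0, nat_lit 0, nat_lit 4, nat_lit 2, nat_lit 3, nat_lit 4, nat_lit 1, nat_lit 4, nat_lit 0, nat_lit 0, nat_lit 2, nat_lit 0, nat_lit 3, nat_lit 0, nat_lit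 0, nat_lit 0, nat_lit 4, nat_lit 3, nat_lit 0, nat_lit 0, nat_lit 0, nat_lit 3, nat_lit 4, nat_lit 2, nat_lit 0, nat_lit 0, nat_lit 0, nat_lit 0, nat_lit 0, nat_lit 2, nat_lit 1, nat_lit 2, nat_lit 0, nat_lit 4, nat_lit 1, nat_lit 3, nat_lit 0, nat_lit 0, nat_lit 2, nat_lit 3, nat_lit 4, nat_lit 3, nat_lit 0, nat_lit 0, nat_lit 0, nat_lit 0, nat_lit 3, nat_lit 4, nat_lit 0, nat_lit 0, nat_lit 0, nat_lit 0, nat_lit 3, nat_lit 4, nat_lit 1, nat_lit 2, nat_lit 0, nat_lit 4, nat_lit 0, nat_lit 0, nat_lit 2, nat_lit 1, nat_lit 0, nat_lit 0, nat_lit 3, nat_lit 1, nat_lit 0, nat_lit 0, nat_lit 0, nat_lit 0, nat_lit 4, nat_lit 1, nat_lit 3, nat_lit 4, nat_lit 1, nat_lit 0, nat_lit 0, nat_lit 0, nat_lit 4, nat_lit 0, nat_lit 0, nat_lit 3, nat_lit 4, nat_lit 1, nat_lit 0, nat_lit 0, nat_lit 0, nat_lit 0, nat_lit 0, nat_lit 3, nat_lit 1, nat_lit 4, nat_lit 1, nat_lit 2, nat_lit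 0, nat_lit 0, nat_lit 2, nat_lit 4, nat_lit 0, nat_lit 0, nat_lit 3, nat_lit 2, nat_lit 0, nat_lit 0, nat_lit 0, nat_lit 0, nat_lit 2, nat_lit 4, nat_lit 1, nat_lit 4, nat_lit 0, nat_lit 0, nat_lit 2, nat_lit 1, nat_lit 0, nat_lit 0, nat_lit 3, nat_lit 1, nat_lit 0, nat_lit 0, nat_lit 0, nat_lit 0, nat_lit 4, nat_lit 1, nat_lit 2, nat_lit 4, nat_lit 0, nat_lit 0, nat_lit 4, nat_lit 0, nat_lit 0, nat_lit 2, nat_lit 4]) 126 = true := by decide +kernel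
theorem p_l2 : lvlO cdA [nat_lit 0, nat_lit 47] pX pZ
    [.app (nat_lit 0) (.pt (nat_lit 0)), .app (nat_lit 0) (.pt (nat_lit 2)), .tr (.pt (nat_lit 3)) (.pt (nat_lit 0))]
    (.dif (.dif (.dif (.dif (.adj (nat_lit 3)) (.adj (nat_lit 4))) (.adj (nat_lit 1))) (.adj (nat_lit 0))) (.adj (nat_lit 2)))
    (.tt) 55 []
    (pick (lmap .ps pW) [nat_lit 0, nat_lit 1, nat_lit 4]) (.stk [nat_lit 1, nat_lit 2, nat_lit 1, nat_lit 3, nat_lit 2, nat_lit 3, nat_lit 0, nat_lit 0, nat_lit 3, nat_lit 2, nat_lit 0, nat_lit 0, nat_lit 0, nat_lit 0, nat_lit 3, nat_lit 1, nat_lit 3, nat_lit 2, nat_lit 3, nat_lit 0, nat_lit 0, nat_lit 3, nat_lit 0, nat_lit 0, nat_lit 0, nat_lit 3, nat_lit 1, nat_lit 3, nat_lit 3, nat_lit 0, nat_lit 0, nat_lit 0, nat_lit 0, nat_lit 0, nat_lit 0, nat_lit 3, nat_lit 1, nat_lit 3, nat_lit 1, nat_lit 3, nat_lit 3, nat_lit 0, nat_lit 0, nat_lit 0, nat_lit 2,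 nat_lit 3, nat_lit 3, nat_lit 0, nat_lit 0, nat_lit 0, nat_lit 3, nat_lit 1, nat_lit 0, nat_lit 0, nat_lit 0, nat_lit 0, nat_lit 2, nat_lit 3, nat_lit 1, nat_lit 3, nat_lit 3, nat_lit 0, nat_lit 0, nat_lit 0, nat_lit 3, nat_lit 0, nat_lit 0, nat_lit 0, nat_lit 3, nat_lit 1, nat_lit 3, nat_lit 1, nat_lit 3, nat_lit 0, nat_lit 0, nat_lit 3, nat_lit 1, nat_lit 0, nat_lit 0, nat_lit 0, nat_lit 0, nat_lit 2, nat_lit 3, nat_lit 3, nat_lit 0, nat_lit 0, nat_lit 0, nat_lit 0, nat_lit 0, nat_lit 0, nat_lit 2, nat_lit 1, nat_lit 2, nat_lit 3, nat_lit 3, nat_lit 0, nat_lit 0, nat_lit 0, nat_lit 3, nat_lit 2, nat_lit 3, nat_lit 0, nat_lit 0, nat_lit 3, nat_lit 2, nat_lit 0, nat_lit 0, nat_lit 0, nat_lit 0, nat_lit 3, nat_lit 1, nat_lit 3, nat_lit 2, nat_lit 3, nat_lit 0, nat_lit 0, nat_lit 3, nat_lit 0, nat_lit 0, nat_lit 0, nat_lit 3, nat_lit 1, nat_lit 3, nat_lit 3, nat_lit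 0, nat_lit 0, nat_lit 0, nat_lit 0, nat_lit 0, nat_lit 0, nat_lit 3, nat_lit 1, nat_lit 3, nat_lit 1, nat_lit 3, nat_lit 3, nat_lit 0, nat_lit 0, nat_lit 0, nat_lit 2, nat_lit 3, nat_lit 3, nat_lit 0, nat_lit 0, nat_lit 0, nat_lit 3, nat_lit 1, nat_lit 0, nat_lit 0, nat_lit 0, nat_lit 0, nat_lit 2, nat_lit 3, nat_lit 1, nat_lit 3, nat_lit 3, nat_lit 0, nat_lit 0, nat_lit 0, nat_lit 3, nat_lit 0, nat_lit 0, nat_lit 0, nat_lit 3, nat_lit 1, nat_lit 3, nat_lit 1, nat_lit 3, nat_lit 0, nat_lit 0, nat_lit 3, nat_lit 1, nat_lit 0, nat_lit 0, nat_lit 0, nat_lit 0, nat_lit 2, nat_lit 3, nat_lit 3, nat_lit 0, nat_lit 0, nat_lit 0, nat_lit 3, nat_lit 3, nat_lit 3]) 96 pT = true := by decide +kernel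
theorem p_b : (cdA.ltL [nat_lit 55, nat_lit 0, nat_lit 47] && subL cdA.bs (cdA.ext ⟨[nat_lit 55, nat_lit 0, nat_lit 47], pX, pZ⟩
    [.app (nat_lit 0) (.pt (nat_lit 0)), .app (nat_lit 0) (.pt (nat_lit 2)), .app (nat_lit 0) (.pt (nat_lit 4)), .tr (.pt (nat_lit 3)) (.pt (nat_lit 5)), .tr (.pt (nat_lit 4)) (.pt (nat_lit 3)), .tr (.pt (nat_lit 6)) (.pt (nat_lit 4)), .tr (.pt (nat_lit 8)) (.pt (nat_lit 5)), .tr (.pt (nat_lit 7)) (.pt (nat_lit 5)), .tr (.pt (nat_lit 8)) (.pt (nat_lit 5)), .tr (.pt (nat_lit 6)) (.pt (nat_lit 5)), .tr (.pt (nat_lit 11)) (.pt (nat_lit 5)), .tr (.pt (nat_lit 7)) (.pt (nat_lit 6)), .tr (.pt (nat_lit 14)) (.pt (nat_lit 6)), .tr (.pt (nat_lit 10)) (.pt (nat_lit 5)), .tr (.pt (nat_lit 9)) (.pt (nat_lit 4)), .tr (.pt (nat_lit 12)) (.pt (nat_lit 4)), .tr (.pt (nat_lit 13)) (.pt (nat_lit 4)), .tr (.pt (nat_lit 8)) (.pt (nat_lit 4)), .tr (.pt (nat_lit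 20)) (.pt (nat_lit 4)), .tr (.pt (nat_lit 11)) (.pt (nat_lit 4)), .tr (.pt (nat_lit 12)) (.pt (nat_lit 4)), .tr (.pt (nat_lit 13)) (.pt (nat_lit 4)), .tr (.pt (nat_lit 20)) (.pt (nat_lit 4)), .tr (.pt (nat_lit 17)) (.pt (nat_lit 3)), .tr (.pt (nat_lit 17)) (.pt (nat_lit 3)), .tr (.pt (nat_lit 19)) (.pt (nat_lit 3)), .tr (.pt (nat_lit 21)) (.pt (nat_lit 3)), .tr (.pt (nat_lit 18)) (.pt (nat_lit 3)), .tr (.pt (nat_lit 25)) (.pt (nat_lit 3)), .tr (.pt (nat_lit 31)) (.pt (nat_lit 3)), .tr (.pt (nat_lit 32)) (.pt (nat_lit 3)), .tr (.pt (nat_lit 33)) (.pt (nat_lit 3)), .tr (.pt (nat_lit 34)) (.pt (nat_lit 3)), .tr (.pt (nat_lit 24)) (.pt (nat_lit 3)), .tr (.pt (nat_lit 25)) (.pt (nat_lit 3)), .tr (.pt (nat_lit 30)) (.pt (nat_lit 0))])) = true := by decide +kernel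
theorem p_res {G : Type*} [Group G] [Finite G] {D : Set G} {β : ℕ → G} {A : Mdl (MulAut G) (MulAut.conj '' D) cdA}
    (h : AM D β A) {H : Subgroup (MulAut G)} (hH : A.Stab H pX pZ) (hG : ∀ a ∈ (lmap .ps pW), A.ev a ∈ H) (hT : A.ev pT ∈ H) :
    Res (H ⊓ Inn G ⊓ A.FixL []) (A.clo (lmap .ps pW)) 1451520 :=
  have hH' := hH.mono (inf_le_left (b := Inn G))
  have hI := h.clo_le_inn p_lt
  have hG' : ∀ a ∈ (lmap .ps pW), A.ev a ∈ H ⊓ Inn G := fun a ha => ⟨hG a ha, hI (A.mem_clo ha)⟩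
  Mdl.step hH' (Mdl.pick_mem hG' _) p_l0 <|
  Mdl.step hH' (Mdl.pick_mem hG' _) p_l1 <|
  Mdl.stepO hH hI (Mdl.pick_mem hG _) hT (h.out_not_mem (by decide)) p_l2 <|
  Mdl.base hH _ (by decide) p_b
theorem p_hs : Fi.lall (hsChk cdA pX pZ) (pT :: lmap .ps pW) = true := by decide +kernel
theorem p_fx : (cdA.ltL [] && cdA.allFix (lmap .ps pW) []) = true := by decide +kernel
theorem p_G {G : Type*} [Group G] [Finite G] {D : Set G} {β : ℕ → G} {A : Mdl (MulAut G) (MulAut.conj '' D) cdA}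
    (h : AM D β A) :
    GH A pX pZ [] = pcl β pW ∧ Nat.card (pcl β pW) = 1451520 :=
  have k := List.forall_mem_cons.1 (Mdl.all_HS (M := A) p_hs)
  h.finI p_lt k.2 p_fx (p_res h Mdl.stab_HS k.2 k.1)
def kX : List Ex := [.mul (.w [nat_lit 32]) (.ps [nat_lit 13])]
noncomputable def kZ : List ℕ := [z2]
def kW : List (List ℕ) := []
def kT : Ex := .w [nat_lit 32]
theorem k_lt : Fi.lall cdA.ltL kW = true := by decide +kernel
theorem k_l0 : lvlO cdA [nat_lit 30, nat_lit 109, nat_lit 31, nat_lit 725, nat_lit 76, nat_lit 733] kX kZ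
    [.tr (.pt (nat_lit 2)) (.pt (nat_lit 3)), .tr (.pt (nat_lit 4)) (.pt (nat_lit 6)), .tr (.pt (nat_lit 6)) (.pt (nat_lit 0))]
    (.dif (.dif (.dif (.and (.adj (nat_lit 0)) (.and (.adj (nat_lit 8)) (.and (.adj (nat_lit 4)) (.adj (nat_lit 3))))) (.adj (nat_lit 5))) (.adj (nat_lit 6))) (.adj (nat_lit 2)))
    (.tt) 0 []
    (pick (lmap .ps kW) []) (.simd []) 1 kT = true := by decide +kernel
theorem k_l1 : cdA.lvlX [nat_lit 0, nat_lit 30, nat_lit 109, nat_lit 31, nat_lit 725, nat_lit 76, nat_lit 733] kX kZ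
    [.tr (.pt (nat_lit 0)) (.pt (nat_lit 3)), .tr (.pt (nat_lit 5)) (.pt (nat_lit 7)), .tr (.pt (nat_lit 4)) (.pt (nat_lit 1)), .tr (.pt (nat_lit 7)) (.pt (nat_lit 2)), .tr (.pt (nat_lit 2)) (.pt (nat_lit 1))]
    (.and (.adj (nat_lit 0)) (.and (.adj (nat_lit 1)) (.and (.adj (nat_lit 5)) (.fix (nat_lit 0)))))
    (.tt) 13 [] []
    (pick (lmap .ps kW) []) (.simd []) 1 = true := by decide +kernel
theorem k_l2 : cdA.lvlX [nat_lit 13, nat_lit 0, nat_lit 30, nat_lit 109, nat_lit 31, nat_lit 725, nat_lit 76, nat_lit 733] kX kZ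
    [.app (nat_lit 0) (.pt (nat_lit 1)), .tr (.pt (nat_lit 2)) (.pt (nat_lit 5)), .tr (.pt (nat_lit 5)) (.pt (nat_lit 9)), .tr (.pt (nat_lit 9)) (.pt (nat_lit 0)), .tr (.pt (nat_lit 2)) (.pt (nat_lit 0))]
    (.dif (.dif (.and (.adj (nat_lit 4)) (.and (.adj (nat_lit 10)) (.and (.adj (nat_lit 12)) (.and (.adj (nat_lit 7)) (.adj (nat_lit 5)))))) (.fix (nat_lit 0))) (.one (nat_lit 0)))
    (.tt) 9 [] []
    (pick (lmap .ps kW) []) (.simd []) 1 = true := by decide +kernel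
theorem k_l3 : cdA.lvlX [nat_lit 9, nat_lit 13, nat_lit 0, nat_lit 30, nat_lit 109, nat_lit 31, nat_lit 725, nat_lit 76, nat_lit 733] kX kZ
    [.tr (.pt (nat_lit 0)) (.pt (nat_lit 4)), .tr (.pt (nat_lit 3)) (.pt (nat_lit 6)), .tr (.pt (nat_lit 7)) (.pt (nat_lit 1)), .tr (.pt (nat_lit 10)) (.pt (nat_lit 1))]
    (.and (.adj (nat_lit 1)) (.and (.adj (nat_lit 0)) (.and (.adj (nat_lit 4)) (.env (nat_lit 0)))))
    (.tt) 47 [] []
    (pick (lmap .ps kW) []) (.simd []) 1 = true := by decide +kernel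
theorem k_b : (cdA.ltL [nat_lit 47, nat_lit 9, nat_lit 13, nat_lit 0, nat_lit 30, nat_lit 109, nat_lit 31, nat_lit 725, nat_lit 76, nat_lit 733] && subL cdA.bs (cdA.ext ⟨[nat_lit 47, nat_lit 9, nat_lit 13, nat_lit 0, nat_lit 30, nat_lit 109, nat_lit 31, nat_lit 725, nat_lit 76, nat_lit 733], kX, kZ⟩
    [.app (nat_lit 0) (.pt (nat_lit 0)), .app (nat_lit 0) (.pt (nat_lit 2)), .tr (.pt (nat_lit 3)) (.pt (nat_lit 5)), .tr (.pt (nat_lit 4)) (.pt (nat_lit 9)), .tr (.pt (nat_lit 12)) (.pt (nat_lit 13)), .tr (.pt (nat_lit 10)) (.pt (nat_lit 2)), .tr (.pt (nat_lit 11)) (.pt (nat_lit 2)), .tr (.pt (nat_lit 14)) (.pt (nat_lit 3)), .tr (.pt (nat_lit 6)) (.pt (nat_lit 3)), .tr (.pt (nat_lit 13)) (.pt (nat_lit 3)), .tr (.pt (nat_lit 17)) (.pt (nat_lit 3)), .tr (.pt (nat_lit 10)) (.pt (nat_lit 3)), .tr (.pt (nat_lit 18)) (.pt (nat_lit 3)), .tr (.pt (nat_lit 20)) (.pt (nat_lit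 3)), .tr (.pt (nat_lit 13)) (.pt (nat_lit 3)), .tr (.pt (nat_lit 23)) (.pt (nat_lit 3)), .tr (.pt (nat_lit 19)) (.pt (nat_lit 3)), .tr (.pt (nat_lit 16)) (.pt (nat_lit 4)), .tr (.pt (nat_lit 24)) (.pt (nat_lit 4)), .tr (.pt (nat_lit 23)) (.pt (nat_lit 4)), .tr (.pt (nat_lit 20)) (.pt (nat_lit 4)), .tr (.pt (nat_lit 28)) (.pt (nat_lit 3)), .tr (.pt (nat_lit 31)) (.pt (nat_lit 0))])) = true := by decide +kernel
theorem k_res {G : Type*} [Group G] [Finite G] {D : Set G} {β : ℕ → G} {A : Mdl (MulAut G) (MulAut.conj '' D) cdA}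
    (h : AM D β A) {H : Subgroup (MulAut G)} (hH : A.Stab H kX kZ) (hG : ∀ a ∈ (lmap .ps kW), A.ev a ∈ H) (hT : A.ev kT ∈ H) :
    Res (H ⊓ Inn G ⊓ A.FixL [nat_lit 30, nat_lit 109, nat_lit 31, nat_lit 725, nat_lit 76, nat_lit 733]) (A.clo (lmap .ps kW)) 1 :=
  have hH' := hH.mono (inf_le_left (b := Inn G))
  have hI := h.clo_le_inn k_lt
  have hG' : ∀ a ∈ (lmap .ps kW), A.ev a ∈ H ⊓ Inn G := fun a ha => ⟨hG a ha, hI (A.mem_clo ha)⟩
  Mdl.stepO hH hI (Mdl.pick_mem hG _) hT (h.s_not_mem) k_l0 <|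
  Mdl.step hH (Mdl.pick_mem hG _) k_l1 <|
  Mdl.step hH (Mdl.pick_mem hG _) k_l2 <|
  Mdl.step hH (Mdl.pick_mem hG _) k_l3 <|
  Mdl.base hH _ (by decide) k_b
theorem k_hs : Fi.lall (hsChk cdA kX kZ) (kT :: lmap .ps kW) = true := by decide +kernel
theorem k_fx : (cdA.ltL [nat_lit 30, nat_lit 109, nat_lit 31, nat_lit 725, nat_lit 76, nat_lit 733] && cdA.allFix (lmap .ps kW) [nat_lit 30, nat_lit 109, nat_lit 31, nat_lit 725, nat_lit 76, nat_lit 733]) = true := by decide +kernel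
theorem k_G {G : Type*} [Group G] [Finite G] {D : Set G} {β : ℕ → G} {A : Mdl (MulAut G) (MulAut.conj '' D) cdA}
    (h : AM D β A) :
    GH A kX kZ [nat_lit 30, nat_lit 109, nat_lit 31, nat_lit 725, nat_lit 76, nat_lit 733] = pcl β kW ∧ Nat.card (pcl β kW) = 1 :=
  have k := List.forall_mem_cons.1 (Mdl.all_HS (M := A) k_hs)
  h.finI k_lt k.2 k_fx (k_res h Mdl.stab_HS k.2 k.1)
def fX : List Ex := [.mul (.w [nat_lit 32]) (.ps [nat_lit 13, nat_lit 30])]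
noncomputable def fZ : List ℕ := []
def fW : List (List ℕ) := [[nat_lit 76], [nat_lit 210], [nat_lit 852, nat_lit 900], [nat_lit 742], [nat_lit 31], [nat_lit 725], [nat_lit 850, nat_lit 852, nat_lit 2254], [nat_lit 376], [nat_lit 831]]
def fT : Ex := .mul (.w [nat_lit 32]) (.ps [nat_lit 13, nat_lit 30])
theorem f_lt : Fi.lall cdA.ltL fW = true := by decide +kernel
theorem f_l0 : cdA.lvlX [] fX fZ
    []
    (.fix (nat_lit 0))
    (.tt) 13 [] []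
    (pick (lmap .ps fW) [nat_lit 0, nat_lit 1, nat_lit 3, nat_lit 4, nat_lit 5, nat_lit 7, nat_lit 8]) (.stk [nat_lit 7, nat_lit 6, nat_lit 3, nat_lit 1, nat_lit 2, nat_lit 3, nat_lit 5, nat_lit 4, nat_lit 0, nat_lit 0, nat_lit 6, nat_lit 7, nat_lit 0, nat_lit 0, nat_lit 0, nat_lit 5, nat_lit 4, nat_lit 6, nat_lit 5, nat_lit 7, nat_lit 6, nat_lit 3, nat_lit 0, nat_lit 0, nat_lit 0, nat_lit 0, nat_lit 7, nat_lit 0, nat_lit 0, nat_lit 0, nat_lit 6, nat_lit 7, nat_lit 0, nat_lit 0, nat_lit 0, nat_lit 0, nat_lit 5, nat_lit 4, nat_lit 6, nat_lit 3, nat_lit 5, nat_lit 6, nat_lit 0, nat_lit 7, nat_lit 0, nat_lit 0, nat_lit 7, nat_lit 6, nat_lit 0, nat_lit 0, nat_lit 0, nat_lit 5, nat_lit 7, nat_lit 6, nat_lit 0, nat_lit 0, nat_lit 0, nat_lit 7, nat_lit 0, nat_lit 0, nat_lit 0, nat_lit 6, nat_lit 3, nat_lit 7, nat_lit 6, nat_lit 5, nat_lit 0, nat_lit 0, nat_lit 0, nat_lit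 0, nat_lit 7, nat_lit 0, nat_lit 0, nat_lit 0, nat_lit 0, nat_lit 2, nat_lit 5, nat_lit 4, nat_lit 6, nat_lit 3, nat_lit 5, nat_lit 6, nat_lit 0, nat_lit 7, nat_lit 0, nat_lit 0, nat_lit 7, nat_lit 6, nat_lit 0, nat_lit 0, nat_lit 0, nat_lit 5, nat_lit 7, nat_lit 6, nat_lit 0, nat_lit 0, nat_lit 0, nat_lit 7, nat_lit 0, nat_lit 0, nat_lit 0, nat_lit 6, nat_lit 3, nat_lit 7, nat_lit 6, nat_lit 5, nat_lit 0, nat_lit 0, nat_lit 0, nat_lit 0, nat_lit 7, nat_lit 0, nat_lit 0, nat_lit 0, nat_lit 0, nat_lit 5, nat_lit 4, nat_lit 6, nat_lit 5, nat_lit 7, nat_lit 6, nat_lit 3, nat_lit 0, nat_lit 0, nat_lit 0, nat_lit 0, nat_lit 7, nat_lit 0, nat_lit 0, nat_lit 0, nat_lit 6, nat_lit 7, nat_lit 0, nat_lit 0, nat_lit 0, nat_lit 0, nat_lit 5, nat_lit 4]) 72 = true := by decide +kernel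
theorem f_l1 : cdA.lvlX [nat_lit 13] fX fZ
    []
    (.dif (.fix (nat_lit 0)) (.adj (nat_lit 0)))
    (.tt) 831 [] []
    (pick (lmap .ps fW) [nat_lit 0, nat_lit 1, nat_lit 3, nat_lit 4, nat_lit 5, nat_lit 7]) (.stk [nat_lit 6, nat_lit 3, nat_lit 1, nat_lit 2, nat_lit 3, nat_lit 5, nat_lit 4, nat_lit 0, nat_lit 0, nat_lit 6, nat_lit 0, nat_lit 0, nat_lit 5, nat_lit 4, nat_lit 6, nat_lit 5, nat_lit 0, nat_lit 0, nat_lit 0, nat_lit 6, nat_lit 0, nat_lit 0, nat_lit 0, nat_lit 5, nat_lit 4, nat_lit 6, nat_lit 3, nat_lit 5, nat_lit 6, nat_lit 0, nat_lit 0, nat_lit 0, nat_lit 5, nat_lit 0, nat_lit 0, nat_lit 0, nat_lit 6, nat_lit 3, nat_lit 0, nat_lit 0, nat_lit 0, nat_lit 0, nat_lit 2, nat_lit 5, nat_lit 4, nat_lit 6, nat_lit 3, nat_lit 5, nat_lit 6, nat_lit 0, nat_lit 0, nat_lit 0, nat_lit 5, nat_lit 0, nat_lit 0, nat_lit 0, nat_lit 6, nat_lit 3, nat_lit 0, nat_lit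 0, nat_lit 0, nat_lit 0, nat_lit 5, nat_lit 4, nat_lit 6, nat_lit 5, nat_lit 0, nat_lit 0, nat_lit 0, nat_lit 6, nat_lit 0, nat_lit 0, nat_lit 0, nat_lit 5, nat_lit 4]) 40 = true := by decide +kernel
theorem f_l2 : cdA.lvlX [nat_lit 831, nat_lit 13] fX fZ
    []
    (.and (.adj (nat_lit 1)) (.and (.adj (nat_lit 0)) (.fix (nat_lit 0))))
    (.tt) 31 [] []
    (pick (lmap .ps fW) [nat_lit 0, nat_lit 1, nat_lit 3, nat_lit 6]) (.stk [nat_lit 4, nat_lit 1, nat_lit 2, nat_lit 4, nat_lit 0, nat_lit 0, nat_lit 3, nat_lit 4, nat_lit 0, nat_lit 0, nat_lit 4, nat_lit 0, nat_lit 0, nat_lit 2, nat_lit 3, nat_lit 4, nat_lit 0, nat_lit 0, nat_lit 4]) 12 = true := by decide +kernel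
theorem f_l3 : cdA.lvlX [nat_lit 31, nat_lit 831, nat_lit 13] fX fZ
    []
    (.dif (.dif (.and (.adj (nat_lit 2)) (.fix (nat_lit 0))) (.adj (nat_lit 0))) (.adj (nat_lit 1)))
    (.tt) 857 [] []
    (pick (lmap .ps fW) [nat_lit 0, nat_lit 1, nat_lit 3, nat_lit 4]) (.stk [nat_lit 3, nat_lit 1, nat_lit 2, nat_lit 3, nat_lit 4, nat_lit 0, nat_lit 0, nat_lit 4, nat_lit 0, nat_lit 0, nat_lit 4, nat_lit 0, nat_lit 0, nat_lit 2, nat_lit 4, nat_lit 0, nat_lit 0, nat_lit 4, nat_lit 0, nat_lit 0, nat_lit 4]) 12 = true := by decide +kernel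
theorem f_l4 : cdA.lvlX [nat_lit 857, nat_lit 31, nat_lit 831, nat_lit 13] fX fZ
    []
    (.and (.adj (nat_lit 3)) (.and (.adj (nat_lit 2)) (.and (.adj (nat_lit 1)) (.and (.adj (nat_lit 0)) (.fix (nat_lit 0))))))
    (.tt) 76 [] []
    (pick (lmap .ps fW) [nat_lit 2]) (.stk [nat_lit 1]) 2 = true := by decide +kernel
theorem f_l5 : cdA.lvlX [nat_lit 76, nat_lit 857, nat_lit 31, nat_lit 831, nat_lit 13] fX fZ
    []
    (.dif (.and (.adj (nat_lit 4)) (.and (.adj (nat_lit 3)) (.and (.adj (nat_lit 2)) (.fix (nat_lit 0))))) (.adj (nat_lit 0)))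
    (.tt) 742 [] []
    (pick (lmap .ps fW) [nat_lit 0, nat_lit 1]) (.stk [nat_lit 1, nat_lit 2, nat_lit 0, nat_lit 0, nat_lit 2]) 4 = true := by decide +kernel
theorem f_l6 : lvlO cdA [nat_lit 742, nat_lit 76, nat_lit 857, nat_lit 31, nat_lit 831, nat_lit 13] fX fZ
    [.tr (.pt (nat_lit 0)) (.pt (nat_lit 2)), .tr (.pt (nat_lit 3)) (.pt (nat_lit 4)), .tr (.pt (nat_lit 4)) (.pt (nat_lit 6)), .tr (.pt (nat_lit 7)) (.pt (nat_lit 8)), .tr (.pt (nat_lit 7)) (.pt (nat_lit 3)), .tr (.pt (nat_lit 10)) (.pt (nat_lit 2)), .tr (.pt (nat_lit 2)) (.pt (nat_lit 1))]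
    (.dif (.and (.adj (nat_lit 5)) (.and (.adj (nat_lit 1)) (.and (.adj (nat_lit 11)) (.and (.adj (nat_lit 0)) (.adj (nat_lit 8)))))) (.fix (nat_lit 0)))
    (.tt) 2 []
    (pick (lmap .ps fW) []) (.simd []) 1 fT = true := by decide +kernel
theorem f_b : (cdA.ltL [nat_lit 2, nat_lit 742, nat_lit 76, nat_lit 857, nat_lit 31, nat_lit 831, nat_lit 13] && subL cdA.bs (cdA.ext ⟨[nat_lit 2, nat_lit 742, nat_lit 76, nat_lit 857, nat_lit 31, nat_lit 831, nat_lit 13], fX, fZ⟩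
    [.app (nat_lit 0) (.pt (nat_lit 0)), .tr (.pt (nat_lit 1)) (.pt (nat_lit 2)), .tr (.pt (nat_lit 3)) (.pt (nat_lit 4)), .tr (.pt (nat_lit 3)) (.pt (nat_lit 6)), .tr (.pt (nat_lit 5)) (.pt (nat_lit 7)), .tr (.pt (nat_lit 5)) (.pt (nat_lit 9)), .tr (.pt (nat_lit 6)) (.pt (nat_lit 12)), .tr (.pt (nat_lit 11)) (.pt (nat_lit 6)), .tr (.pt (nat_lit 7)) (.pt (nat_lit 5)), .tr (.pt (nat_lit 14)) (.pt (nat_lit 4)), .tr (.pt (nat_lit 7)) (.pt (nat_lit 4)), .tr (.pt (nat_lit 16)) (.pt (nat_lit 4)), .tr (.pt (nat_lit 7)) (.pt (nat_lit 5)), .tr (.pt (nat_lit 11)) (.pt (nat_lit 5)), .tr (.pt (nat_lit 9)) (.pt (nat_lit 5)), .tr (.pt (nat_lit 14)) (.pt (nat_lit 5)), .tr (.pt (nat_lit 11)) (.pt (nat_lit 5)), .tr (.pt (nat_lit 16)) (.pt (nat_lit 5)), .tr (.pt (nat_lit 20)) (.pt (nat_lit 5)), .tr (.pt (nat_lit 25)) (.pt (nat_lit 5)), .tr (.pt (nat_lit 24)) (.pt (nat_lit 4)), .tr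 (.pt (nat_lit 20)) (.pt (nat_lit 4)), .tr (.pt (nat_lit 28)) (.pt (nat_lit 4)), .tr (.pt (nat_lit 21)) (.pt (nat_lit 4)), .tr (.pt (nat_lit 20)) (.pt (nat_lit 4)), .tr (.pt (nat_lit 28)) (.pt (nat_lit 4)), .tr (.pt (nat_lit 22)) (.pt (nat_lit 4)), .tr (.pt (nat_lit 31)) (.pt (nat_lit 3)), .tr (.pt (nat_lit 33)) (.pt (nat_lit 3)), .tr (.pt (nat_lit 35)) (.pt (nat_lit 3)), .tr (.pt (nat_lit 25)) (.pt (nat_lit 2)), .tr (.pt (nat_lit 29)) (.pt (nat_lit 1))])) = true := by decide +kernel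
theorem f_res {G : Type*} [Group G] [Finite G] {D : Set G} {β : ℕ → G} {A : Mdl (MulAut G) (MulAut.conj '' D) cdA}
    (h : AM D β A) {H : Subgroup (MulAut G)} (hH : A.Stab H fX fZ) (hG : ∀ a ∈ (lmap .ps fW), A.ev a ∈ H) (hT : A.ev fT ∈ H) :
    Res (H ⊓ Inn G ⊓ A.FixL []) (A.clo (lmap .ps fW)) 3317760 :=
  have hH' := hH.mono (inf_le_left (b := Inn G))
  have hI := h.clo_le_inn f_lt
  have hG' : ∀ a ∈ (lmap .ps fW), A.ev a ∈ H ⊓ Inn G := fun a ha => ⟨hG a ha, hI (A.mem_clo ha)⟩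
  Mdl.step hH' (Mdl.pick_mem hG' _) f_l0 <|
  Mdl.step hH' (Mdl.pick_mem hG' _) f_l1 <|
  Mdl.step hH' (Mdl.pick_mem hG' _) f_l2 <|
  Mdl.step hH' (Mdl.pick_mem hG' _) f_l3 <|
  Mdl.step hH' (Mdl.pick_mem hG' _) f_l4 <|
  Mdl.step hH' (Mdl.pick_mem hG' _) f_l5 <|
  Mdl.stepO hH hI (Mdl.pick_mem hG _) hT (h.out_not_mem (by decide)) f_l6 <|
  Mdl.base hH _ (by decide) f_b
theorem f_hs : Fi.lall (hsChk cdA fX fZ) (fT :: lmap .ps fW) = true := by decide +kernel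
theorem f_fx : (cdA.ltL [] && cdA.allFix (lmap .ps fW) []) = true := by decide +kernel
theorem f_G {G : Type*} [Group G] [Finite G] {D : Set G} {β : ℕ → G} {A : Mdl (MulAut G) (MulAut.conj '' D) cdA}
    (h : AM D β A) :
    GH A fX fZ [] = pcl β fW ∧ Nat.card (pcl β fW) = 3317760 :=
  have k := List.forall_mem_cons.1 (Mdl.all_HS (M := A) f_hs)
  h.finI f_lt k.2 f_fx (f_res h Mdl.stab_HS k.2 k.1)
def cX : List Ex := [.mul (.w [nat_lit 32]) (.ps [nat_lit 13, nat_lit 30]), .ps [nat_lit 293, nat_lit 334], .ps [nat_lit 1023, nat_lit 2434], .ps [nat_lit 36, nat_lit 329], .ps [nat_lit 728, nat_lit 2425], .ps [nat_lit 13, nat_lit 30], .ps [nat_lit 1834, nat_lit 3141]]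
noncomputable def cZ : List ℕ := []
def cW : List (List ℕ) := [[nat_lit 293, nat_lit 334], [nat_lit 1023, nat_lit 2434], [nat_lit 36, nat_lit 329], [nat_lit 728, nat_lit 2425], [nat_lit 13, nat_lit 30], [nat_lit 1834, nat_lit 3141]]
def cT : Ex := .mul (.w [nat_lit 32]) (.ps [nat_lit 1834, nat_lit 3141])
theorem c_lt : Fi.lall cdA.ltL cW = true := by decide +kernel
theorem c_l0 : cdA.lvlX [] cX cZ
    []
    (.dif (.dif (.and (.fix (nat_lit 5)) (.and (.fix (nat_lit 3)) (.fix (nat_lit 1)))) (.fix (nat_lit 0))) (.fix (nat_lit 6)))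
    (.tt) 14 [] []
    (pick (lmap .ps cW) [nat_lit 1, nat_lit 3, nat_lit 5]) (.stk [nat_lit 1, nat_lit 2, nat_lit 3, nat_lit 0, nat_lit 0, nat_lit 3, nat_lit 0, nat_lit 0, nat_lit 2, nat_lit 3, nat_lit 0, nat_lit 0, nat_lit 3]) 8 = true := by decide +kernel
theorem c_l1 : cdA.lvlX [nat_lit 14] cX cZ
    []
    (.dif (.dif (.and (.fix (nat_lit 6)) (.and (.fix (nat_lit 4)) (.fix (nat_lit 2)))) (.fix (nat_lit 0))) (.fix (nat_lit 5)))
    (.tt) 723 [] []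
    (pick (lmap .ps cW) [nat_lit 0, nat_lit 2, nat_lit 4]) (.stk [nat_lit 1, nat_lit 2, nat_lit 3, nat_lit 0, nat_lit 0, nat_lit 3, nat_lit 0, nat_lit 0, nat_lit 2, nat_lit 3, nat_lit 0, nat_lit 0, nat_lit 3]) 8 = true := by decide +kernel
theorem c_l2 : lvlO cdA [nat_lit 723, nat_lit 14] cX cZ
    [.app (nat_lit 3) (.pt (nat_lit 0)), .app (nat_lit 0) (.pt (nat_lit 2)), .app (nat_lit 2) (.pt (nat_lit 3)), .tr (.pt (nat_lit 4)) (.pt (nat_lit 2)), .tr (.pt (nat_lit 1)) (.pt (nat_lit 0))]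
    (.and (.adj (nat_lit 0)) (.and (.adj (nat_lit 3)) (.fix (nat_lit 4))))
    (.tt) 0 []
    (pick (lmap .ps cW) []) (.simd []) 1 cT = true := by decide +kernel
theorem c_b : (cdA.ltL [nat_lit 0, nat_lit 723, nat_lit 14] && subL cdA.bs (cdA.ext ⟨[nat_lit 0, nat_lit 723, nat_lit 14], cX, cZ⟩
    [.app (nat_lit 0) (.pt (nat_lit 0)), .app (nat_lit 3) (.pt (nat_lit 1)), .app (nat_lit 6) (.pt (nat_lit 2)), .app (nat_lit 0) (.pt (nat_lit 4)), .app (nat_lit 3) (.pt (nat_lit 5)), .app (nat_lit 0) (.pt (nat_lit 7)), .app (nat_lit 2) (.pt (nat_lit 8)), .tr (.pt (nat_lit 7)) (.pt (nat_lit 9)), .tr (.pt (nat_lit 9)) (.pt (nat_lit 10)), .tr (.pt (nat_lit 9)) (.pt (nat_lit 4)), .tr (.pt (nat_lit 11)) (.pt (nat_lit 2)), .tr (.pt (nat_lit 6)) (.pt (nat_lit 3)), .tr (.pt (nat_lit 10)) (.pt (nat_lit 3)), .tr (.pt (nat_lit 15)) (.pt (nat_lit 3)), .tr (.pt (nat_lit 9)) (.pt (nat_lit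 3)), .tr (.pt (nat_lit 9)) (.pt (nat_lit 3)), .app (nat_lit 0) (.pt (nat_lit 3)), .tr (.pt (nat_lit 13)) (.pt (nat_lit 3)), .tr (.pt (nat_lit 11)) (.pt (nat_lit 3)), .tr (.pt (nat_lit 20)) (.pt (nat_lit 3)), .tr (.pt (nat_lit 17)) (.pt (nat_lit 4)), .tr (.pt (nat_lit 16)) (.pt (nat_lit 4)), .tr (.pt (nat_lit 16)) (.pt (nat_lit 4)), .app (nat_lit 4) (.pt (nat_lit 4)), .tr (.pt (nat_lit 23)) (.pt (nat_lit 4)), .tr (.pt (nat_lit 21)) (.pt (nat_lit 4)), .app (nat_lit 2) (.pt (nat_lit 3)), .tr (.pt (nat_lit 20)) (.pt (nat_lit 1)), .tr (.pt (nat_lit 29)) (.pt (nat_lit 1))])) = true := by decide +kernel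
theorem c_res {G : Type*} [Group G] [Finite G] {D : Set G} {β : ℕ → G} {A : Mdl (MulAut G) (MulAut.conj '' D) cdA}
    (h : AM D β A) {H : Subgroup (MulAut G)} (hH : A.Stab H cX cZ) (hG : ∀ a ∈ (lmap .ps cW), A.ev a ∈ H) (hT : A.ev cT ∈ H) :
    Res (H ⊓ Inn G ⊓ A.FixL []) (A.clo (lmap .ps cW)) 64 :=
  have hH' := hH.mono (inf_le_left (b := Inn G))
  have hI := h.clo_le_inn c_lt
  have hG' : ∀ a ∈ (lmap .ps cW), A.ev a ∈ H ⊓ Inn G := fun a ha => ⟨hG a ha, hI (A.mem_clo ha)⟩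
  Mdl.step hH' (Mdl.pick_mem hG' _) c_l0 <|
  Mdl.step hH' (Mdl.pick_mem hG' _) c_l1 <|
  Mdl.stepO hH hI (Mdl.pick_mem hG _) hT (h.out_not_mem (by decide)) c_l2 <|
  Mdl.base hH _ (by decide) c_b
theorem c_hs : Fi.lall (hsChk cdA cX cZ) (cT :: lmap .ps cW) = true := by decide +kernel
theorem c_fx : (cdA.ltL [] && cdA.allFix (lmap .ps cW) []) = true := by decide +kernel
theorem c_G {G : Type*} [Group G] [Finite G] {D : Set G} {β : ℕ → G} {A : Mdl (MulAut G) (MulAut.conj '' D) cdA}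
    (h : AM D β A) :
    GH A cX cZ [] = pcl β cW ∧ Nat.card (pcl β cW) = 64 :=
  have k := List.forall_mem_cons.1 (Mdl.all_HS (M := A) c_hs)
  h.finI c_lt k.2 c_fx (c_res h Mdl.stab_HS k.2 k.1)
theorem lab : lall2 (labP cdA (2 ^ 7) zm pf (rfw 2 7 ql7) (rwOk 2 ql7)) (lmap .ps pW)
    [[(nat_lit 1, nat_lit 95), (nat_lit 1, nat_lit 49), (nat_lit 1, nat_lit 46)],
     [(nat_lit 1, nat_lit 95), (nat_lit 1, nat_lit 74), (nat_lit 1, nat_lit 50)],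
     [(nat_lit 1, nat_lit 100), (nat_lit 1, nat_lit 56), (nat_lit 1, nat_lit 28)],
     [(nat_lit 1, nat_lit 74), (nat_lit 1, nat_lit 45), (nat_lit 1, nat_lit 39)],
     [(nat_lit 1, nat_lit 126), (nat_lit 1, nat_lit 81), (nat_lit 1, nat_lit 45), (nat_lit 1, nat_lit 29), (nat_lit 1, nat_lit 27), (nat_lit 1, nat_lit 3)],
     [(nat_lit 1, nat_lit 102), (nat_lit 1, nat_lit 53), (nat_lit 1, nat_lit 19)],
     [(nat_lit 1, nat_lit 85), (nat_lit 1, nat_lit 57), (nat_lit 1, nat_lit 44)]] = true := by decide +kernel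
def cC : List ℕ := [nat_lit 1, nat_lit 2, nat_lit 4, nat_lit 8, nat_lit 16, nat_lit 32]
def fR : List (List (ℕ × ℕ)) := [[(nat_lit 1, nat_lit 17)],
  [(nat_lit 1, nat_lit 17)],
  [],
  [(nat_lit 1, nat_lit 31)],
  [(nat_lit 1, nat_lit 21)],
  [(nat_lit 1, nat_lit 25)],
  [(nat_lit 1, nat_lit 26), (nat_lit 1, nat_lit 16), (nat_lit 1, nat_lit 13), (nat_lit 1, nat_lit 7)],
  [(nat_lit 1, nat_lit 20)],
  [(nat_lit 1, nat_lit 34)]]
def q2 : ℕ := nat_lit 47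

end Cfsg.Agent.FA.A72
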