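import Cfsg.Agent.FA.SX
import Cfsg.Agent.FA.O6

set_option autoImplicit false
set_option maxRecDepth 100000
set_option Elab.async false

namespace Cfsg.Agent.FA.A73

open Cfsg.Agent.FM hiding Pts Mdl testBit_fixOf
open Cfsg.Agent.FA

noncomputable def zt : List ℕ := [nat_lit 0,
  nat_lit 0x200182130000000000000000000000000000000000000000000000000000000200004000004000000000000000000000000000000000000004000000000000000000000004081080002a00000000000000000000042401,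
  nat_lit 0x200000000000000000000000000000000000438000000000000000000000000000000000002000000000000702000000000000000020040000000000600003000000000008002200000000000000002100000000000001,
  nat_lit 0,
  nat_lit 0x2000021000000000000000004000010000004000400000000000000000000000000000000000000000000000000000000000006000600600000c0000000000000000000000000000000200000000003000c00000000401,
  nat_lit 0x200002100000000012000c00000000000000000000000000000000000000000000000000000000000080008000100004000000000000000000000000002008100000800000000000000208000020000000000404000401,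
  nat_lit 0x200000000000000004000000000000000000400000000000000000000e0000000000004000000000000000000000000000080000002f140000000000000000800000000010000000000000480800002000000000000001,
  nat_lit 0,
  nat_lit 0x200000020000000000000000000000000000000000001400040000000000000200000000000000000100000172000000000000000000000000000004400002000001400000000000002800000040100000000000000001,
  nat_lit 0x200000020000000000000000000100000000000000000000000000000000000f00000000800000000000000000000000002c0000000780000000000000000000000000000000001000f800000000000000000000000001,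
  nat_lit 0x200000000000000018000000000000000000000000000000001000010000000000000180000000000000008103000000000000000000000000000000c00006100000000001000400000000000200000000000440000001,
  nat_lit 0,
  nat_lit 0,
  nat_lit 0,
  nat_lit 0,
  nat_lit 0x2000000000000000100000000000008000000400000000000002000000000000000000000c0000000000009000000000000800000007400000000000000000300000000040000000000000100000000042000400000001,
  nat_lit 0,
  nat_lit 0,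
  nat_lit 0,
  nat_lit 0x200000001080000000000000000000000000000040001000000200002000000000000000000000000100001000200000000000200000000000080000000010200001000000000000000010100040020000400000200001,
  nat_lit 0,
  nat_lit 0,
  nat_lit 0,
  nat_lit 0x220000000000000000000000200000000000000040000000000000000000000c00000180018000000000000000000000000000200000000000080000000000000000008081000410008000000000000000406000000001,
  nat_lit 0,
  nat_lit 0,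
  nat_lit 0,
  nat_lit 0x200000000000000000000800100200000000000000001000000000000000000000000040400000000180000000000000000000000018300000000000000000000001800030000000000400000060000000008000000001,
  nat_lit 0x200100000000000000000000000000000000000000000000000300060000000000004000000000000000001e00000000000000000000000000000000200001600000000000000080000000340400000000000000040001,
  nat_lit 0x2001000000000000000000000000000000100000000000000000000000000000000045e0100000000000000000000000000000000008100000000000000000000000000013000d80000000000000000080000000040001,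
  nat_lit 0x200000000040000000000800000000000000000000000800000000000000000c0000000000000000008000060c0000000000000000000000000000032000010000008000000000100080000000200c0000000000000001,
  nat_lit 0,
  nat_lit 0,
  nat_lit 0,
  nat_lit 0,
  nat_lit 0x20000000000000000000000000000180001004000000000000000000000000000000040000000000000000007c0000000000000000400200000000070000000000000000000001000000000000000010c2000000000001,
  nat_lit 0,
  nat_lit 0,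
  nat_lit 0,
  nat_lit 0x200000000000000008000000000001000000000000000000001100040000000000000000c00000000000000000000000002400000050a20000000000000000000000000020000000000000040600001000000040000001,
  nat_lit 0,
  nat_lit 0,
  nat_lit 0,
  nat_lit 0x200000000000000006000000000000000000000000000000000000020800000000000000018000000000000870100000000000000000000000000004000008400000008080000000000008280800000000000000000001,
  nat_lit 0x22000001000000000000000030020080000007000000000000000000000000000000000000000000000000000000000000000000000000000400000000000000000000000008020000040000000000014200e000002001,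
  nat_lit 0x2000000110c000000c000000000000000000000000000800001000000800000000000000000000000000000000000000000000000000000004000000000000000000000000080000000000080a000e0000000040202001,
  nat_lit 0x200000000000000002000000000000000000030000000000000000002000000000000020900000000000000000300000002400000000800000000000000018000000000002000a00000018000000000100000000000001,
  nat_lit 0,
  nat_lit 0,
  nat_lit 0,
  nat_lit 0,
  nat_lit 0x200000000040000000000000400000000000000000000c000400000000000000000000201c00000000000000000000000000004000004000000400000000000000004000420008000000000000001c0000800000000001,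
  nat_lit 0,
  nat_lit 0,
  nat_lit 0,
  nat_lit 0x200000000000000000000000500300000000000000000000000000030000000100000000000000000000000801000000000000400000000000040000800004400000000000000000005400200000000000808000000001,
  nat_lit 0,
  nat_lit 0,
  nat_lit 0,
  nat_lit 0x220000000000000000000400200000000000000000000400040100040600000000000000000000000000000000000004000000000000000000000000002000800000400000000000000000440400100000006004000001,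
  nat_lit 0x2000800000000000000000000000000000000080000000000000000000000000000000004de0000000000000000000000000000000106000000000000000000000000080ec003000000000000000000000000000000001,
  nat_lit 0x20008000000000000000000000000000000000000000000000000001260000000000000000400000000000000d200000000000000000000000000003800014800000000004001000000010400000000000000000000001,
  nat_lit 0x200000001080000000000400000100000010008000000000000000000000000100000400002000000000000000000004000000000000000000000000002000000000000008002100005000000000020080000004200001]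
noncomputable def zf (y : ℕ) : ℕ := nth zt 0 y
def zm : ℕ := nat_lit 0x7888788878888776
theorem z_dis : disChk cdA (2 ^ 6) zm zf = true := by decide +kernel
theorem z_span : spanChk 2 6 zm [[nat_lit 1], [nat_lit 2], [nat_lit 4], [nat_lit 8], [nat_lit 60, nat_lit 44], [nat_lit 62, nat_lit 30]] = true := by decide +kernel
def yk : List ℕ := [nat_lit 1, nat_lit 4, nat_lit 2, nat_lit 15, nat_lit 5, nat_lit 30, nat_lit 9, nat_lit 44, nat_lit 46, nat_lit 62, nat_lit 6, nat_lit 45, nat_lit 35, nat_lit 51, nat_lit 10, nat_lit 19, nat_lit 59, nat_lit 55, nat_lit 39, nat_lit 28, nat_lit 27, nat_lit 29, nat_lit 8, nat_lit 23, nat_lit 43, nat_lit 61, nat_lit 60]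
def cX : List Ex := [.ps [nat_lit 693, nat_lit 0]]
noncomputable def cZ : List ℕ := []
def cW : List (List ℕ) := [[nat_lit 693], [nat_lit 709, nat_lit 748, nat_lit 1656], [nat_lit 899, nat_lit 124, nat_lit 443, nat_lit 1660, nat_lit 3324], [nat_lit 34, nat_lit 61, nat_lit 109, nat_lit 258], [nat_lit 13], [nat_lit 695, nat_lit 696], [nat_lit 18], [nat_lit 21]]
def cT : Ex := .mul (.w [nat_lit 32]) (.ps [nat_lit 8, nat_lit 215, nat_lit 477, nat_lit 2197])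
theorem c_lt : Fi.lall cdA.ltL cW = true := by decide +kernel
theorem c_l0 : cdA.lvlX [] cX cZ
    []
    (.fix (nat_lit 0))
    (.cnt (.var) (.fix (nat_lit 0)) (nat_lit 54) (.tt)) 10 [nat_lit 0, nat_lit 693] []
    (pick (cT :: lmap .ps cW) [nat_lit 0, nat_lit 1, nat_lit 2, nat_lit 5, nat_lit 6, nat_lit 7, nat_lit 8]) (.stk [nat_lit 7, nat_lit 6, nat_lit 3, nat_lit 3, nat_lit 4, nat_lit 1, nat_lit 4, nat_lit 6, nat_lit 0, nat_lit 0, nat_lit 6, nat_lit 5, nat_lit 3, nat_lit 0, nat_lit 0, nat_lit 0, nat_lit 0, nat_lit 6, nat_lit 0, nat_lit 0, nat_lit 5, nat_lit 1, nat_lit 3, nat_lit 6, nat_lit 7, nat_lit 0, nat_lit 0, nat_lit 0, nat_lit 4, nat_lit 1, nat_lit 5, nat_lit 0, nat_lit 0, nat_lit 5, nat_lit 6, nat_lit 0, nat_lit 0, nat_lit 0, nat_lit 5, nat_lit 3, nat_lit 0, nat_lit 6, nat_lit 5, nat_lit 0, nat_lit 0, nat_lit 0, nat_lit 0, nat_lit 3, nat_lit 6, nat_lit 7, nat_lit 0, nat_lit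 0, nat_lit 0, nat_lit 0, nat_lit 6, nat_lit 5, nat_lit 1, nat_lit 4, nat_lit 5, nat_lit 0, nat_lit 0, nat_lit 5, nat_lit 0, nat_lit 0, nat_lit 0, nat_lit 7, nat_lit 0, nat_lit 0, nat_lit 0, nat_lit 4, nat_lit 1, nat_lit 4, nat_lit 6, nat_lit 5, nat_lit 1, nat_lit 0, nat_lit 7, nat_lit 0, nat_lit 0, nat_lit 7, nat_lit 0, nat_lit 0, nat_lit 0, nat_lit 5, nat_lit 1, nat_lit 4, nat_lit 0, nat_lit 6, nat_lit 7, nat_lit 0, nat_lit 0, nat_lit 0, nat_lit 3, nat_lit 0, nat_lit 6, nat_lit 3, nat_lit 0, nat_lit 7, nat_lit 0, nat_lit 0, nat_lit 0, nat_lit 6, nat_lit 5, nat_lit 3, nat_lit 6, nat_lit 7, nat_lit 0, nat_lit 0, nat_lit 7, nat_lit 0, nat_lit 0, nat_lit 6, nat_lit 7, nat_lit 6, nat_lit 0, nat_lit 0, nat_lit 0, nat_lit 7, nat_lit 6, nat_lit 0, nat_lit 0, nat_lit 0, nat_lit 7, nat_lit 0, nat_lit 0, nat_lit 0, nat_lit 6, nat_lit 5, nat_lit 6, nat_lit 7, nat_lit 0, nat_lit 0, nat_lit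 7, nat_lit 0, nat_lit 0, nat_lit 7, nat_lit 0, nat_lit 0, nat_lit 0, nat_lit 6, nat_lit 5, nat_lit 1, nat_lit 4, nat_lit 6, nat_lit 7, nat_lit 0, nat_lit 0, nat_lit 7, nat_lit 0, nat_lit 0, nat_lit 5, nat_lit 3, nat_lit 7, nat_lit 0, nat_lit 0, nat_lit 7, nat_lit 0, nat_lit 0, nat_lit 6, nat_lit 5, nat_lit 1, nat_lit 0, nat_lit 3, nat_lit 7, nat_lit 0, nat_lit 0, nat_lit 7, nat_lit 0, nat_lit 0, nat_lit 7, nat_lit 0, nat_lit 0, nat_lit 7, nat_lit 0, nat_lit 0, nat_lit 6, nat_lit 7, nat_lit 0, nat_lit 0, nat_lit 7, nat_lit 0, nat_lit 0, nat_lit 7, nat_lit 0, nat_lit 0, nat_lit 0, nat_lit 5, nat_lit 1, nat_lit 3, nat_lit 4, nat_lit 1, nat_lit 3, nat_lit 0, nat_lit 5, nat_lit 0, nat_lit 0, nat_lit 3, nat_lit 6, nat_lit 3, nat_lit 7, nat_lit 0, nat_lit 0, nat_lit 5, nat_lit 6, nat_lit 0, nat_lit 7, nat_lit 0, nat_lit 0, nat_lit 7, nat_lit 0, nat_lit 0, nat_lit 0, nat_lit 0, nat_lit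 0, nat_lit 5, nat_lit 3, nat_lit 0, nat_lit 6, nat_lit 3, nat_lit 3, nat_lit 7, nat_lit 0, nat_lit 0, nat_lit 6, nat_lit 0, nat_lit 7, nat_lit 0, nat_lit 0, nat_lit 7, nat_lit 0, nat_lit 0, nat_lit 0, nat_lit 6, nat_lit 3, nat_lit 3, nat_lit 4, nat_lit 7, nat_lit 6, nat_lit 3, nat_lit 0, nat_lit 0, nat_lit 0, nat_lit 0, nat_lit 5, nat_lit 3, nat_lit 6, nat_lit 0, nat_lit 7, nat_lit 0, nat_lit 0, nat_lit 7, nat_lit 0, nat_lit 0, nat_lit 7, nat_lit 6, nat_lit 0, nat_lit 0, nat_lit 0, nat_lit 4, nat_lit 3, nat_lit 6, nat_lit 0, nat_lit 7, nat_lit 0, nat_lit 0, nat_lit 5, nat_lit 1, nat_lit 7, nat_lit 6, nat_lit 0, nat_lit 0, nat_lit 0, nat_lit 7, nat_lit 6, nat_lit 0, nat_lit 0, nat_lit 0, nat_lit 7, nat_lit 0, nat_lit 0, nat_lit 5, nat_lit 7, nat_lit 6, nat_lit 3, nat_lit 0, nat_lit 5, nat_lit 3, nat_lit 0, nat_lit 0, nat_lit 0, nat_lit 0, nat_lit 0, nat_lit 7, nat_lit 0, nat_lit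 0, nat_lit 5, nat_lit 1, nat_lit 3, nat_lit 7, nat_lit 0, nat_lit 0, nat_lit 7, nat_lit 0, nat_lit 0, nat_lit 3, nat_lit 6, nat_lit 0, nat_lit 7, nat_lit 6, nat_lit 0, nat_lit 0, nat_lit 0, nat_lit 6, nat_lit 0, nat_lit 7, nat_lit 0, nat_lit 0, nat_lit 7, nat_lit 0, nat_lit 0, nat_lit 0, nat_lit 3, nat_lit 0, nat_lit 6, nat_lit 3, nat_lit 3, nat_lit 7, nat_lit 6, nat_lit 0, nat_lit 0, nat_lit 0, nat_lit 4, nat_lit 3, nat_lit 6, nat_lit 0, nat_lit 7, nat_lit 0, nat_lit 0, nat_lit 7, nat_lit 0, nat_lit 0, nat_lit 5, nat_lit 7, nat_lit 6, nat_lit 3, nat_lit 0, nat_lit 0, nat_lit 0, nat_lit 0, nat_lit 7, nat_lit 0, nat_lit 0, nat_lit 7]) 180 = true := by decide +kernel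
theorem c_l1 : cdA.lvlX [nat_lit 10] cX cZ
    []
    (.dif (.fix (nat_lit 0)) (.adj (nat_lit 0)))
    (.tt) 21 [] []
    (pick (cT :: lmap .ps cW) [nat_lit 0, nat_lit 1, nat_lit 2, nat_lit 5, nat_lit 6, nat_lit 7]) (.stk [nat_lit 6, nat_lit 3, nat_lit 3, nat_lit 4, nat_lit 1, nat_lit 4, nat_lit 6, nat_lit 0, nat_lit 0, nat_lit 6, nat_lit 5, nat_lit 3, nat_lit 0, nat_lit 0, nat_lit 0, nat_lit 0, nat_lit 6, nat_lit 5, nat_lit 0, nat_lit 0, nat_lit 0, nat_lit 5, nat_lit 1, nat_lit 3, nat_lit 6, nat_lit 0, nat_lit 0, nat_lit 4, nat_lit 1, nat_lit 5, nat_lit 0, nat_lit 0, nat_lit 5, nat_lit 6, nat_lit 0, nat_lit 0, nat_lit 0, nat_lit 5, nat_lit 3, nat_lit 0, nat_lit 6, nat_lit 5, nat_lit 0, nat_lit 0, nat_lit 0, nat_lit 0, nat_lit 3, nat_lit 6, nat_lit 0, nat_lit 0, nat_lit 0, nat_lit 6, nat_lit 5, nat_lit 1, nat_lit 4, nat_lit 5, nat_lit 0, nat_lit 0, nat_lit 5, nat_lit 0, nat_lit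 0, nat_lit 0, nat_lit 0, nat_lit 0, nat_lit 4, nat_lit 1, nat_lit 4, nat_lit 6, nat_lit 5, nat_lit 1, nat_lit 3, nat_lit 0, nat_lit 0, nat_lit 3, nat_lit 0, nat_lit 0, nat_lit 0, nat_lit 0, nat_lit 5, nat_lit 1, nat_lit 4, nat_lit 0, nat_lit 6, nat_lit 0, nat_lit 0, nat_lit 3, nat_lit 0, nat_lit 6, nat_lit 3, nat_lit 3, nat_lit 0, nat_lit 0, nat_lit 0, nat_lit 0, nat_lit 6, nat_lit 5, nat_lit 3, nat_lit 6, nat_lit 0, nat_lit 0, nat_lit 6, nat_lit 0, nat_lit 0, nat_lit 0, nat_lit 0, nat_lit 6, nat_lit 5, nat_lit 6, nat_lit 0, nat_lit 0, nat_lit 0, nat_lit 0, nat_lit 6, nat_lit 5, nat_lit 1, nat_lit 3, nat_lit 4, nat_lit 0, nat_lit 5, nat_lit 3, nat_lit 0, nat_lit 6, nat_lit 0, nat_lit 0, nat_lit 0, nat_lit 4, nat_lit 6, nat_lit 0, nat_lit 0, nat_lit 5, nat_lit 3, nat_lit 0, nat_lit 0, nat_lit 6, nat_lit 5, nat_lit 1, nat_lit 0, nat_lit 3, nat_lit 0, nat_lit 0, nat_lit 0, nat_lit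 0, nat_lit 3, nat_lit 4, nat_lit 0, nat_lit 5, nat_lit 0, nat_lit 0, nat_lit 6, nat_lit 0, nat_lit 0, nat_lit 0, nat_lit 0, nat_lit 5, nat_lit 1, nat_lit 3, nat_lit 4, nat_lit 1, nat_lit 3, nat_lit 0, nat_lit 5, nat_lit 0, nat_lit 0, nat_lit 3, nat_lit 6, nat_lit 3, nat_lit 0, nat_lit 5, nat_lit 6, nat_lit 0, nat_lit 0, nat_lit 0, nat_lit 0, nat_lit 0, nat_lit 0, nat_lit 5, nat_lit 3, nat_lit 0, nat_lit 6, nat_lit 3, nat_lit 3, nat_lit 0, nat_lit 6, nat_lit 0, nat_lit 0, nat_lit 0, nat_lit 0, nat_lit 6, nat_lit 3, nat_lit 3, nat_lit 4, nat_lit 0, nat_lit 5, nat_lit 3, nat_lit 6, nat_lit 0, nat_lit 0, nat_lit 0, nat_lit 0, nat_lit 4, nat_lit 3, nat_lit 6, nat_lit 0, nat_lit 0, nat_lit 5, nat_lit 1, nat_lit 0, nat_lit 0, nat_lit 6, nat_lit 0, nat_lit 0, nat_lit 5, nat_lit 0, nat_lit 6, nat_lit 5, nat_lit 3, nat_lit 0, nat_lit 0, nat_lit 0, nat_lit 0, nat_lit 5, nat_lit 1, nat_lit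 3, nat_lit 0, nat_lit 0, nat_lit 3, nat_lit 6, nat_lit 0, nat_lit 0, nat_lit 6, nat_lit 0, nat_lit 0, nat_lit 0, nat_lit 0, nat_lit 3, nat_lit 0, nat_lit 6, nat_lit 3, nat_lit 3, nat_lit 0, nat_lit 4, nat_lit 3, nat_lit 6, nat_lit 0, nat_lit 0, nat_lit 0, nat_lit 5, nat_lit 0, nat_lit 6]) 128 = true := by decide +kernel
theorem c_l2 : cdA.lvlX [nat_lit 21, nat_lit 10] cX cZ
    [.tr (.pt (nat_lit 0)) (.pt (nat_lit 1))]
    (.dif (.dif (.dif (.fix (nat_lit 0)) (.adj (nat_lit 1))) (.adj (nat_lit 2))) (.adj (nat_lit 0)))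
    (.tt) 93 [] []
    (pick (cT :: lmap .ps cW) [nat_lit 0, nat_lit 2, nat_lit 5, nat_lit 6]) (.stk [nat_lit 3, nat_lit 1, nat_lit 2, nat_lit 2, nat_lit 3, nat_lit 0, nat_lit 4, nat_lit 2, nat_lit 0, nat_lit 0, nat_lit 0, nat_lit 3, nat_lit 2, nat_lit 2, nat_lit 0, nat_lit 0, nat_lit 4, nat_lit 1, nat_lit 0, nat_lit 0, nat_lit 0, nat_lit 4, nat_lit 2, nat_lit 4, nat_lit 0, nat_lit 0, nat_lit 0, nat_lit 0, nat_lit 3, nat_lit 4, nat_lit 1, nat_lit 2, nat_lit 0, nat_lit 0, nat_lit 2, nat_lit 0, nat_lit 0, nat_lit 0, nat_lit 4, nat_lit 2, nat_lit 4, nat_lit 0, nat_lit 0, nat_lit 0, nat_lit 0, nat_lit 2, nat_lit 2, nat_lit 0, nat_lit 3, nat_lit 0, nat_lit 4, nat_lit 0, nat_lit 0, nat_lit 4, nat_lit 0, nat_lit 0, nat_lit 4, nat_lit 1, nat_lit 2, nat_lit 2, nat_lit 3, nat_lit 0, nat_lit 0, nat_lit 3, nat_lit 4, nat_lit 1, nat_lit 0, nat_lit 0, nat_lit 0, nat_lit 4, nat_lit 2, nat_lit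 0, nat_lit 0, nat_lit 0, nat_lit 3, nat_lit 4, nat_lit 2, nat_lit 0, nat_lit 0, nat_lit 0, nat_lit 4, nat_lit 2, nat_lit 0, nat_lit 0, nat_lit 0, nat_lit 2, nat_lit 2, nat_lit 0, nat_lit 3, nat_lit 0, nat_lit 4]) 48 = true := by decide +kernel
theorem c_l3 : cdA.lvlX [nat_lit 93, nat_lit 21, nat_lit 10] cX cZ
    []
    (.dif (.and (.adj (nat_lit 2)) (.and (.adj (nat_lit 1)) (.adj (nat_lit 0)))) (.fix (nat_lit 0)))
    (.tt) 32 [] []
    (pick (cT :: lmap .ps cW) [nat_lit 0, nat_lit 3, nat_lit 4]) (.stk [nat_lit 1, nat_lit 2, nat_lit 1, nat_lit 0, nat_lit 2, nat_lit 0, nat_lit 3, nat_lit 0, nat_lit 0, nat_lit 3, nat_lit 1, nat_lit 0, nat_lit 2, nat_lit 0, nat_lit 0, nat_lit 0, nat_lit 2, nat_lit 1, nat_lit 0, nat_lit 2, nat_lit 0, nat_lit 3, nat_lit 0, nat_lit 0, nat_lit 3, nat_lit 1, nat_lit 0, nat_lit 2]) 16 = true := by decide +kernel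
theorem c_l4 : cdA.lvlX [nat_lit 32, nat_lit 93, nat_lit 21, nat_lit 10] cX cZ
    [.app (nat_lit 0) (.pt (nat_lit 0)), .tr (.pt (nat_lit 2)) (.pt (nat_lit 3)), .tr (.pt (nat_lit 4)) (.pt (nat_lit 5))]
    (.dif (.dif (.and (.adj (nat_lit 0)) (.and (.adj (nat_lit 1)) (.and (.adj (nat_lit 2)) (.adj (nat_lit 3))))) (.adj (nat_lit 4))) (.fix (nat_lit 0)))
    (.tt) 700 [] []
    (pick (cT :: lmap .ps cW) [nat_lit 2]) (.stk [nat_lit 1, nat_lit 1, nat_lit 1, nat_lit 1, nat_lit 1]) 6 = true := by decide +kernel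
theorem c_l5 : cdA.lvlX [nat_lit 700, nat_lit 32, nat_lit 93, nat_lit 21, nat_lit 10] cX cZ
    [.tr (.pt (nat_lit 0)) (.pt (nat_lit 3)), .tr (.pt (nat_lit 1)) (.pt (nat_lit 5)), .tr (.pt (nat_lit 4)) (.pt (nat_lit 6))]
    (.dif (.dif (.dif (.dif (.and (.adj (nat_lit 1)) (.and (.adj (nat_lit 2)) (.fix (nat_lit 0)))) (.adj (nat_lit 4))) (.adj (nat_lit 3))) (.adj (nat_lit 5))) (.adj (nat_lit 0)))
    (.tt) 38 [] []
    (pick (cT :: lmap .ps cW) []) (.simd []) 1 = true := by decide +kernel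
theorem c_b : (cdA.ltL [nat_lit 38, nat_lit 700, nat_lit 32, nat_lit 93, nat_lit 21, nat_lit 10] && subL cdA.bs (cdA.ext ⟨[nat_lit 38, nat_lit 700, nat_lit 32, nat_lit 93, nat_lit 21, nat_lit 10], cX, cZ⟩
    [.app (nat_lit 0) (.pt (nat_lit 1)), .tr (.pt (nat_lit 1)) (.pt (nat_lit 2)), .app (nat_lit 0) (.pt (nat_lit 4)), .tr (.pt (nat_lit 3)) (.pt (nat_lit 5)), .tr (.pt (nat_lit 4)) (.pt (nat_lit 7)), .tr (.pt (nat_lit 6)) (.pt (nat_lit 8)), .tr (.pt (nat_lit 6)) (.pt (nat_lit 10)), .tr (.pt (nat_lit 8)) (.pt (nat_lit 12)), .tr (.pt (nat_lit 12)) (.pt (nat_lit 7)), .tr (.pt (nat_lit 11)) (.pt (nat_lit 7)), .tr (.pt (nat_lit 12)) (.pt (nat_lit 7)), .tr (.pt (nat_lit 10)) (.pt (nat_lit 7)), .tr (.pt (nat_lit 9)) (.pt (nat_lit 5)), .tr (.pt (nat_lit 8)) (.pt (nat_lit 5)), .tr (.pt (nat_lit 9)) (.pt (nat_lit 4)), .tr (.pt (nat_lit 10)) (.pt (nat_lit 3)), .tr (.pt (nat_lit 11)) (.pt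 (nat_lit 3)), .tr (.pt (nat_lit 21)) (.pt (nat_lit 3)), .tr (.pt (nat_lit 22)) (.pt (nat_lit 3)), .tr (.pt (nat_lit 24)) (.pt (nat_lit 3)), .tr (.pt (nat_lit 25)) (.pt (nat_lit 3)), .tr (.pt (nat_lit 18)) (.pt (nat_lit 3)), .tr (.pt (nat_lit 27)) (.pt (nat_lit 3)), .tr (.pt (nat_lit 27)) (.pt (nat_lit 3)), .tr (.pt (nat_lit 24)) (.pt (nat_lit 3)), .tr (.pt (nat_lit 21)) (.pt (nat_lit 3)), .tr (.pt (nat_lit 20)) (.pt (nat_lit 1)), .tr (.pt (nat_lit 21)) (.pt (nat_lit 1)), .app (nat_lit 0) (.pt (nat_lit 0))])) = true := by decide +kernel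
theorem c_res {G : Type*} [Group G] [Finite G] {D : Set G} {β : ℕ → G} {A : Mdl (MulAut G) (MulAut.conj '' D) cdA}
    (_h : AM D β A) {H : Subgroup (MulAut G)} (hH : A.Stab H cX cZ) (hG : ∀ a ∈ (cT :: lmap .ps cW), A.ev a ∈ H) :
    Res (H ⊓ A.FixL []) (A.clo (cT :: lmap .ps cW)) 106168320 :=
  Mdl.step hH (Mdl.pick_mem hG _) c_l0 <|
  Mdl.step hH (Mdl.pick_mem hG _) c_l1 <|
  Mdl.step hH (Mdl.pick_mem hG _) c_l2 <|
  Mdl.step hH (Mdl.pick_mem hG _) c_l3 <|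
  Mdl.step hH (Mdl.pick_mem hG _) c_l4 <|
  Mdl.step hH (Mdl.pick_mem hG _) c_l5 <|
  Mdl.base hH _ (by decide) c_b
theorem c_hs : Fi.lall (hsChk cdA cX cZ) (cT :: lmap .ps cW) = true := by decide +kernel
theorem c_fx : (cdA.ltL [] && cdA.allFix (cT :: lmap .ps cW) []) = true := by decide +kernel
theorem c_A {G : Type*} [Group G] [Finite G] {D : Set G} {β : ℕ → G} {A : Mdl (MulAut G) (MulAut.conj '' D) cdA}
    (h : AM D β A) :
    A.HS cX cZ ⊓ A.FixL [] = A.clo (cT :: lmap .ps cW) ∧ Nat.card (A.clo (cT :: lmap .ps cW)) = 106168320 :=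
  Mdl.fin c_hs c_fx (c_res h Mdl.stab_HS (Mdl.all_HS c_hs))
def gX : List Ex := [.ps [nat_lit 693, nat_lit 0]]
noncomputable def gZ : List ℕ := []
def gW : List (List ℕ) := [[nat_lit 693], [nat_lit 709, nat_lit 748, nat_lit 1656], [nat_lit 0], [nat_lit 18, nat_lit 47, nat_lit 234, nat_lit 422], [nat_lit 13, nat_lit 46, nat_lit 285, nat_lit 664], [nat_lit 13], [nat_lit 1692, nat_lit 1694], [nat_lit 18], [nat_lit 21]]
def gT : Ex := .mul (.w [nat_lit 32]) (.ps [nat_lit 12, nat_lit 704, nat_lit 3170, nat_lit 3173])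
theorem g_lt : Fi.lall cdA.ltL gW = true := by decide +kernel
theorem g_l0 : cdA.lvlX [] gX gZ
    []
    (.fix (nat_lit 0))
    (.cnt (.var) (.fix (nat_lit 0)) (nat_lit 54) (.tt)) 10 [nat_lit 0, nat_lit 693] []
    (pick (lmap .ps gW) [nat_lit 0, nat_lit 1, nat_lit 2, nat_lit 3, nat_lit 5, nat_lit 7, nat_lit 8]) (.stk [nat_lit 7, nat_lit 6, nat_lit 2, nat_lit 2, nat_lit 4, nat_lit 5, nat_lit 2, nat_lit 2, nat_lit 4, nat_lit 6, nat_lit 7, nat_lit 0, nat_lit 0, nat_lit 0, nat_lit 6, nat_lit 2, nat_lit 7, nat_lit 6, nat_lit 2, nat_lit 0, nat_lit 0, nat_lit 0, nat_lit 0, nat_lit 7, nat_lit 0, nat_lit 0, nat_lit 0, nat_lit 4, nat_lit 0, nat_lit 0, nat_lit 4, nat_lit 0, nat_lit 6, nat_lit 2, nat_lit 5, nat_lit 6, nat_lit 7, nat_lit 0, nat_lit 0, nat_lit 0, nat_lit 6, nat_lit 7, nat_lit 0, nat_lit 0, nat_lit 0, nat_lit 0, nat_lit 0, nat_lit 6, nat_lit 2, nat_lit 2, nat_lit 0, nat_lit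 7, nat_lit 0, nat_lit 0, nat_lit 7, nat_lit 0, nat_lit 0, nat_lit 0, nat_lit 5, nat_lit 2, nat_lit 2, nat_lit 4, nat_lit 6, nat_lit 2, nat_lit 7, nat_lit 6, nat_lit 2, nat_lit 0, nat_lit 0, nat_lit 0, nat_lit 0, nat_lit 7, nat_lit 0, nat_lit 0, nat_lit 0, nat_lit 6, nat_lit 2, nat_lit 7, nat_lit 6, nat_lit 2, nat_lit 4, nat_lit 0, nat_lit 0, nat_lit 4, nat_lit 0, nat_lit 0, nat_lit 0, nat_lit 0, nat_lit 7, nat_lit 0, nat_lit 0, nat_lit 0, nat_lit 4, nat_lit 5, nat_lit 0, nat_lit 0, nat_lit 0, nat_lit 4, nat_lit 5, nat_lit 0, nat_lit 6, nat_lit 2, nat_lit 5, nat_lit 6, nat_lit 7, nat_lit 0, nat_lit 0, nat_lit 0, nat_lit 6, nat_lit 7, nat_lit 0, nat_lit 0, nat_lit 0, nat_lit 0, nat_lit 0, nat_lit 6, nat_lit 2, nat_lit 4, nat_lit 5, nat_lit 6, nat_lit 7, nat_lit 0, nat_lit 0, nat_lit 0, nat_lit 6, nat_lit 7, nat_lit 0, nat_lit 0, nat_lit 0, nat_lit 5, nat_lit 6, nat_lit 7, nat_lit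 0, nat_lit 0, nat_lit 0, nat_lit 6, nat_lit 7, nat_lit 0, nat_lit 0, nat_lit 0, nat_lit 4, nat_lit 0, nat_lit 0, nat_lit 0, nat_lit 6, nat_lit 7, nat_lit 0, nat_lit 0, nat_lit 0, nat_lit 4, nat_lit 5, nat_lit 2, nat_lit 2, nat_lit 0, nat_lit 4, nat_lit 6, nat_lit 2, nat_lit 2, nat_lit 7, nat_lit 0, nat_lit 0, nat_lit 5, nat_lit 2, nat_lit 6, nat_lit 0, nat_lit 7, nat_lit 0, nat_lit 0, nat_lit 7, nat_lit 0, nat_lit 0, nat_lit 7, nat_lit 0, nat_lit 0, nat_lit 7, nat_lit 0, nat_lit 0, nat_lit 0, nat_lit 6, nat_lit 2, nat_lit 2, nat_lit 5, nat_lit 7, nat_lit 0, nat_lit 0, nat_lit 7, nat_lit 6, nat_lit 0, nat_lit 0, nat_lit 0, nat_lit 5, nat_lit 2, nat_lit 6, nat_lit 0, nat_lit 7, nat_lit 0, nat_lit 0, nat_lit 7, nat_lit 0, nat_lit 0, nat_lit 7, nat_lit 0, nat_lit 0, nat_lit 7, nat_lit 0, nat_lit 0, nat_lit 0, nat_lit 4, nat_lit 5, nat_lit 0, nat_lit 0, nat_lit 6, nat_lit 2, nat_lit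 2, nat_lit 5, nat_lit 0, nat_lit 0, nat_lit 0, nat_lit 7, nat_lit 0, nat_lit 0, nat_lit 0, nat_lit 6, nat_lit 2, nat_lit 2, nat_lit 7, nat_lit 0, nat_lit 0, nat_lit 7, nat_lit 0, nat_lit 0, nat_lit 7, nat_lit 0, nat_lit 0, nat_lit 0, nat_lit 5, nat_lit 2, nat_lit 2, nat_lit 4, nat_lit 0, nat_lit 0, nat_lit 4, nat_lit 6, nat_lit 2, nat_lit 2, nat_lit 7, nat_lit 6, nat_lit 0, nat_lit 0, nat_lit 0, nat_lit 5, nat_lit 2, nat_lit 6, nat_lit 0, nat_lit 7, nat_lit 0, nat_lit 0, nat_lit 7, nat_lit 0, nat_lit 0, nat_lit 7, nat_lit 0, nat_lit 0, nat_lit 7, nat_lit 0, nat_lit 0, nat_lit 0, nat_lit 6, nat_lit 2, nat_lit 2, nat_lit 7, nat_lit 6, nat_lit 4, nat_lit 0, nat_lit 0, nat_lit 0, nat_lit 0, nat_lit 5, nat_lit 2, nat_lit 6, nat_lit 0, nat_lit 7, nat_lit 0, nat_lit 0, nat_lit 7, nat_lit 0, nat_lit 0, nat_lit 7, nat_lit 0, nat_lit 0, nat_lit 7, nat_lit 0, nat_lit 0, nat_lit 0, nat_lit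 4, nat_lit 5, nat_lit 2, nat_lit 0, nat_lit 0, nat_lit 6, nat_lit 2, nat_lit 2, nat_lit 5, nat_lit 0, nat_lit 0, nat_lit 0, nat_lit 7, nat_lit 0, nat_lit 0, nat_lit 0, nat_lit 6, nat_lit 2, nat_lit 2, nat_lit 4, nat_lit 5, nat_lit 0, nat_lit 0, nat_lit 5, nat_lit 0, nat_lit 0, nat_lit 4, nat_lit 5, nat_lit 0, nat_lit 0, nat_lit 0, nat_lit 4, nat_lit 7, nat_lit 0, nat_lit 0, nat_lit 7, nat_lit 0, nat_lit 0, nat_lit 0, nat_lit 6, nat_lit 7, nat_lit 0, nat_lit 0, nat_lit 0, nat_lit 4, nat_lit 6, nat_lit 2, nat_lit 2, nat_lit 6, nat_lit 0, nat_lit 7, nat_lit 0, nat_lit 0, nat_lit 6, nat_lit 0, nat_lit 7, nat_lit 0, nat_lit 0, nat_lit 7]) 180 = true := by decide +kernel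
theorem g_l1 : cdA.lvlX [nat_lit 10] gX gZ
    []
    (.dif (.fix (nat_lit 0)) (.adj (nat_lit 0)))
    (.tt) 21 [] []
    (pick (lmap .ps gW) [nat_lit 0, nat_lit 1, nat_lit 2, nat_lit 3, nat_lit 5, nat_lit 7]) (.stk [nat_lit 6, nat_lit 2, nat_lit 2, nat_lit 4, nat_lit 5, nat_lit 2, nat_lit 2, nat_lit 4, nat_lit 6, nat_lit 0, nat_lit 0, nat_lit 6, nat_lit 2, nat_lit 0, nat_lit 0, nat_lit 0, nat_lit 4, nat_lit 0, nat_lit 0, nat_lit 4, nat_lit 0, nat_lit 6, nat_lit 2, nat_lit 2, nat_lit 5, nat_lit 0, nat_lit 0, nat_lit 5, nat_lit 6, nat_lit 0, nat_lit 0, nat_lit 6, nat_lit 0, nat_lit 0, nat_lit 0, nat_lit 0, nat_lit 6, nat_lit 2, nat_lit 2, nat_lit 0, nat_lit 0, nat_lit 0, nat_lit 0, nat_lit 5, nat_lit 2, nat_lit 2, nat_lit 4, nat_lit 6, nat_lit 2, nat_lit 0, nat_lit 0, nat_lit 0, nat_lit 6, nat_lit 2, nat_lit 0, nat_lit 0, nat_lit 0, nat_lit 4, nat_lit 5, nat_lit 0, nat_lit 0, nat_lit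 0, nat_lit 4, nat_lit 5, nat_lit 0, nat_lit 6, nat_lit 2, nat_lit 2, nat_lit 5, nat_lit 0, nat_lit 0, nat_lit 5, nat_lit 6, nat_lit 0, nat_lit 0, nat_lit 6, nat_lit 0, nat_lit 0, nat_lit 0, nat_lit 0, nat_lit 6, nat_lit 2, nat_lit 2, nat_lit 4, nat_lit 5, nat_lit 0, nat_lit 0, nat_lit 5, nat_lit 0, nat_lit 0, nat_lit 4, nat_lit 5, nat_lit 6, nat_lit 0, nat_lit 0, nat_lit 6, nat_lit 0, nat_lit 0, nat_lit 5, nat_lit 6, nat_lit 0, nat_lit 0, nat_lit 6, nat_lit 0, nat_lit 0, nat_lit 4, nat_lit 0, nat_lit 0, nat_lit 0, nat_lit 6, nat_lit 0, nat_lit 0, nat_lit 4, nat_lit 5, nat_lit 2, nat_lit 2, nat_lit 0, nat_lit 4, nat_lit 6, nat_lit 2, nat_lit 2, nat_lit 0, nat_lit 5, nat_lit 2, nat_lit 6, nat_lit 0, nat_lit 0, nat_lit 0, nat_lit 0, nat_lit 0, nat_lit 0, nat_lit 6, nat_lit 2, nat_lit 2, nat_lit 5, nat_lit 0, nat_lit 0, nat_lit 5, nat_lit 2, nat_lit 6, nat_lit 0, nat_lit 0, nat_lit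 0, nat_lit 0, nat_lit 0, nat_lit 0, nat_lit 4, nat_lit 5, nat_lit 0, nat_lit 0, nat_lit 6, nat_lit 2, nat_lit 2, nat_lit 5, nat_lit 0, nat_lit 0, nat_lit 5, nat_lit 0, nat_lit 0, nat_lit 0, nat_lit 0, nat_lit 6, nat_lit 2, nat_lit 2, nat_lit 0, nat_lit 0, nat_lit 0, nat_lit 0, nat_lit 5, nat_lit 2, nat_lit 2, nat_lit 4, nat_lit 0, nat_lit 0, nat_lit 4, nat_lit 6, nat_lit 2, nat_lit 2, nat_lit 0, nat_lit 5, nat_lit 2, nat_lit 6, nat_lit 0, nat_lit 0, nat_lit 0, nat_lit 0, nat_lit 0, nat_lit 0, nat_lit 6, nat_lit 2, nat_lit 2, nat_lit 0, nat_lit 5, nat_lit 2, nat_lit 6, nat_lit 0, nat_lit 0, nat_lit 0, nat_lit 0, nat_lit 0, nat_lit 0, nat_lit 4, nat_lit 5, nat_lit 2, nat_lit 0, nat_lit 0, nat_lit 6, nat_lit 2, nat_lit 2, nat_lit 5, nat_lit 0, nat_lit 0, nat_lit 5, nat_lit 0, nat_lit 0, nat_lit 0, nat_lit 0, nat_lit 6, nat_lit 2, nat_lit 2, nat_lit 4, nat_lit 5, nat_lit 0, nat_lit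 0, nat_lit 5, nat_lit 0, nat_lit 0, nat_lit 4, nat_lit 5, nat_lit 0, nat_lit 0, nat_lit 5, nat_lit 0, nat_lit 0, nat_lit 4, nat_lit 0, nat_lit 0, nat_lit 0, nat_lit 6, nat_lit 0, nat_lit 0, nat_lit 4, nat_lit 6, nat_lit 2, nat_lit 2, nat_lit 6, nat_lit 0, nat_lit 0, nat_lit 6]) 128 = true := by decide +kernel
theorem g_l2 : cdA.lvlX [nat_lit 21, nat_lit 10] gX gZ
    [.tr (.pt (nat_lit 0)) (.pt (nat_lit 1))]
    (.dif (.dif (.dif (.fix (nat_lit 0)) (.adj (nat_lit 1))) (.adj (nat_lit 2))) (.adj (nat_lit 0)))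
    (.tt) 93 [] []
    (pick (lmap .ps gW) [nat_lit 1, nat_lit 5, nat_lit 6]) (.stk [nat_lit 2, nat_lit 1, nat_lit 1, nat_lit 0, nat_lit 2, nat_lit 0, nat_lit 3, nat_lit 1, nat_lit 1, nat_lit 2, nat_lit 3, nat_lit 1, nat_lit 2, nat_lit 3, nat_lit 0, nat_lit 0, nat_lit 3, nat_lit 0, nat_lit 0, nat_lit 0, nat_lit 0, nat_lit 3, nat_lit 0, nat_lit 0, nat_lit 2, nat_lit 3, nat_lit 0, nat_lit 0, nat_lit 3, nat_lit 0, nat_lit 0, nat_lit 0, nat_lit 0, nat_lit 3, nat_lit 1, nat_lit 1, nat_lit 2, nat_lit 1, nat_lit 3, nat_lit 1, nat_lit 2, nat_lit 3, nat_lit 0, nat_lit 0, nat_lit 3, nat_lit 0, nat_lit 0, nat_lit 0, nat_lit 0, nat_lit 3, nat_lit 1, nat_lit 2, nat_lit 3, nat_lit 0, nat_lit 0, nat_lit 3, nat_lit 0, nat_lit 0, nat_lit 0, nat_lit 0, nat_lit 3, nat_lit 0, nat_lit 0, nat_lit 2, nat_lit 1, nat_lit 3, nat_lit 0, nat_lit 0, nat_lit 3, nat_lit 0, nat_lit 0, nat_lit 3, nat_lit 0, nat_lit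 0, nat_lit 0, nat_lit 0, nat_lit 3, nat_lit 1, nat_lit 1, nat_lit 0, nat_lit 2, nat_lit 1, nat_lit 1, nat_lit 3, nat_lit 0, nat_lit 0, nat_lit 3, nat_lit 0, nat_lit 0, nat_lit 0, nat_lit 3]) 48 = true := by decide +kernel
theorem g_l3 : lvlO cdA [nat_lit 93, nat_lit 21, nat_lit 10] gX gZ
    []
    (.dif (.and (.adj (nat_lit 2)) (.and (.adj (nat_lit 1)) (.adj (nat_lit 0)))) (.fix (nat_lit 0)))
    (.tt) 32 []
    (pick (lmap .ps gW) [nat_lit 3, nat_lit 4]) (.stk [nat_lit 1, nat_lit 1, nat_lit 1, nat_lit 0, nat_lit 2, nat_lit 0, nat_lit 0, nat_lit 2, nat_lit 0, nat_lit 0, nat_lit 2, nat_lit 1]) 8 gT = true := by decide +kernel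
theorem g_l4 : cdA.lvlX [nat_lit 32, nat_lit 93, nat_lit 21, nat_lit 10] gX gZ
    [.app (nat_lit 0) (.pt (nat_lit 0)), .tr (.pt (nat_lit 2)) (.pt (nat_lit 3)), .tr (.pt (nat_lit 4)) (.pt (nat_lit 5))]
    (.dif (.dif (.and (.adj (nat_lit 0)) (.and (.adj (nat_lit 1)) (.and (.adj (nat_lit 2)) (.adj (nat_lit 3))))) (.adj (nat_lit 4))) (.fix (nat_lit 0)))
    (.tt) 700 [] []
    (pick (lmap .ps gW) [nat_lit 1]) (.stk [nat_lit 1, nat_lit 1, nat_lit 1, nat_lit 1, nat_lit 1]) 6 = true := by decide +kernel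
theorem g_l5 : cdA.lvlX [nat_lit 700, nat_lit 32, nat_lit 93, nat_lit 21, nat_lit 10] gX gZ
    [.tr (.pt (nat_lit 0)) (.pt (nat_lit 3)), .tr (.pt (nat_lit 1)) (.pt (nat_lit 5)), .tr (.pt (nat_lit 4)) (.pt (nat_lit 6))]
    (.dif (.dif (.dif (.dif (.and (.adj (nat_lit 1)) (.and (.adj (nat_lit 2)) (.fix (nat_lit 0)))) (.adj (nat_lit 4))) (.adj (nat_lit 3))) (.adj (nat_lit 5))) (.adj (nat_lit 0)))
    (.tt) 38 [] []
    (pick (lmap .ps gW) []) (.simd []) 1 = true := by decide +kernel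
theorem g_b : (cdA.ltL [nat_lit 38, nat_lit 700, nat_lit 32, nat_lit 93, nat_lit 21, nat_lit 10] && subL cdA.bs (cdA.ext ⟨[nat_lit 38, nat_lit 700, nat_lit 32, nat_lit 93, nat_lit 21, nat_lit 10], gX, gZ⟩
    [.app (nat_lit 0) (.pt (nat_lit 1)), .tr (.pt (nat_lit 1)) (.pt (nat_lit 2)), .app (nat_lit 0) (.pt (nat_lit 4)), .tr (.pt (nat_lit 3)) (.pt (nat_lit 5)), .tr (.pt (nat_lit 4)) (.pt (nat_lit 7)), .tr (.pt (nat_lit 6)) (.pt (nat_lit 8)), .tr (.pt (nat_lit 6)) (.pt (nat_lit 10)), .tr (.pt (nat_lit 8)) (.pt (nat_lit 12)), .tr (.pt (nat_lit 12)) (.pt (nat_lit 7)), .tr (.pt (nat_lit 11)) (.pt (nat_lit 7)), .tr (.pt (nat_lit 12)) (.pt (nat_lit 7)), .tr (.pt (nat_lit 10)) (.pt (nat_lit 7)), .tr (.pt (nat_lit 9)) (.pt (nat_lit 5)), .tr (.pt (nat_lit 8)) (.pt (nat_lit 5)), .tr (.pt (nat_lit 9)) (.pt (nat_lit 4)), .tr (.pt (nat_lit 10)) (.pt (nat_lit 3)), .tr (.pt (nat_lit 11)) (.pt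 (nat_lit 3)), .tr (.pt (nat_lit 21)) (.pt (nat_lit 3)), .tr (.pt (nat_lit 22)) (.pt (nat_lit 3)), .tr (.pt (nat_lit 24)) (.pt (nat_lit 3)), .tr (.pt (nat_lit 25)) (.pt (nat_lit 3)), .tr (.pt (nat_lit 18)) (.pt (nat_lit 3)), .tr (.pt (nat_lit 27)) (.pt (nat_lit 3)), .tr (.pt (nat_lit 27)) (.pt (nat_lit 3)), .tr (.pt (nat_lit 24)) (.pt (nat_lit 3)), .tr (.pt (nat_lit 21)) (.pt (nat_lit 3)), .tr (.pt (nat_lit 20)) (.pt (nat_lit 1)), .tr (.pt (nat_lit 21)) (.pt (nat_lit 1)), .app (nat_lit 0) (.pt (nat_lit 0))])) = true := by decide +kernel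
theorem g_res {G : Type*} [Group G] [Finite G] {D : Set G} {β : ℕ → G} {A : Mdl (MulAut G) (MulAut.conj '' D) cdA}
    (h : AM D β A) {H : Subgroup (MulAut G)} (hH : A.Stab H gX gZ) (hG : ∀ a ∈ (lmap .ps gW), A.ev a ∈ H) (hT : A.ev gT ∈ H) :
    Res (H ⊓ Inn G ⊓ A.FixL []) (A.clo (lmap .ps gW)) 53084160 :=
  have hH' := hH.mono (inf_le_left (b := Inn G))
  have hI := h.clo_le_inn g_lt
  have hG' : ∀ a ∈ (lmap .ps gW), A.ev a ∈ H ⊓ Inn G := fun a ha => ⟨hG a ha, hI (A.mem_clo ha)⟩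
  Mdl.step hH' (Mdl.pick_mem hG' _) g_l0 <|
  Mdl.step hH' (Mdl.pick_mem hG' _) g_l1 <|
  Mdl.step hH' (Mdl.pick_mem hG' _) g_l2 <|
  Mdl.stepO hH hI (Mdl.pick_mem hG _) hT (h.out_not_mem (by decide)) g_l3 <|
  Mdl.step hH (Mdl.pick_mem hG _) g_l4 <|
  Mdl.step hH (Mdl.pick_mem hG _) g_l5 <|
  Mdl.base hH _ (by decide) g_b
theorem g_hs : Fi.lall (hsChk cdA gX gZ) (gT :: lmap .ps gW) = true := by decide +kernel
theorem g_fx : (cdA.ltL [] && cdA.allFix (lmap .ps gW) []) = true := by decide +kernel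
theorem g_G {G : Type*} [Group G] [Finite G] {D : Set G} {β : ℕ → G} {A : Mdl (MulAut G) (MulAut.conj '' D) cdA}
    (h : AM D β A) :
    GH A gX gZ [] = pcl β gW ∧ Nat.card (pcl β gW) = 53084160 :=
  have k := List.forall_mem_cons.1 (Mdl.all_HS (M := A) g_hs)
  h.finI g_lt k.2 g_fx (g_res h Mdl.stab_HS k.2 k.1)
def kX : List Ex := []
noncomputable def kZ : List ℕ := []
def kW : List (List ℕ) := [[nat_lit 18], [nat_lit 34], [nat_lit 693], [nat_lit 109], [nat_lit 132], [nat_lit 135, nat_lit 0, nat_lit 11, nat_lit 167, nat_lit 505], [nat_lit 13], [nat_lit 21]]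
def kT : Ex := .mul (.w [nat_lit 32]) (.ps [nat_lit 7, nat_lit 153, nat_lit 1396, nat_lit 2386])
theorem k_lt : Fi.lall cdA.ltL kW = true := by decide +kernel
theorem k_l0 : cdA.lvlX [nat_lit 0, nat_lit 693] kX kZ
    []
    (.dif (.dif (.and (.adj (nat_lit 1)) (.adj (nat_lit 0))) (.one (nat_lit 0))) (.one (nat_lit 1)))
    (.tt) 10 [] []
    (pick (lmap .ps kW) [nat_lit 0, nat_lit 1, nat_lit 2, nat_lit 3, nat_lit 4, nat_lit 6, nat_lit 7]) (.stk [nat_lit 7, nat_lit 1, nat_lit 4, nat_lit 2, nat_lit 1, nat_lit 6, nat_lit 2, nat_lit 4, nat_lit 0, nat_lit 5, nat_lit 0, nat_lit 7, nat_lit 0, nat_lit 0, nat_lit 0, nat_lit 0, nat_lit 5, nat_lit 6, nat_lit 2, nat_lit 4, nat_lit 0, nat_lit 0, nat_lit 0, nat_lit 0, nat_lit 6, nat_lit 7, nat_lit 2, nat_lit 4, nat_lit 0, nat_lit 0, nat_lit 4, nat_lit 2, nat_lit 7, nat_lit 0, nat_lit 0, nat_lit 0, nat_lit 0, nat_lit 0, nat_lit 7, nat_lit 4,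 nat_lit 0, nat_lit 0, nat_lit 0, nat_lit 5, nat_lit 2, nat_lit 6, nat_lit 7, nat_lit 2, nat_lit 0, nat_lit 0, nat_lit 0, nat_lit 7, nat_lit 0, nat_lit 0, nat_lit 0, nat_lit 7, nat_lit 2, nat_lit 4, nat_lit 6, nat_lit 2, nat_lit 0, nat_lit 0, nat_lit 0, nat_lit 6, nat_lit 0, nat_lit 0, nat_lit 0, nat_lit 0, nat_lit 5, nat_lit 2, nat_lit 1, nat_lit 6, nat_lit 2, nat_lit 4, nat_lit 0, nat_lit 5, nat_lit 0, nat_lit 7, nat_lit 0, nat_lit 0, nat_lit 0, nat_lit 0, nat_lit 4, nat_lit 6, nat_lit 2, nat_lit 5, nat_lit 0, nat_lit 0, nat_lit 0, nat_lit 0, nat_lit 6, nat_lit 7, nat_lit 2, nat_lit 5, nat_lit 0, nat_lit 0, nat_lit 0, nat_lit 0, nat_lit 7, nat_lit 0, nat_lit 0, nat_lit 7, nat_lit 2, nat_lit 6, nat_lit 0, nat_lit 0, nat_lit 0, nat_lit 0, nat_lit 0, nat_lit 2, nat_lit 4, nat_lit 2, nat_lit 6, nat_lit 2, nat_lit 1, nat_lit 5, nat_lit 0, nat_lit 0, nat_lit 5, nat_lit 7, nat_lit 0,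 nat_lit 0, nat_lit 7, nat_lit 4, nat_lit 5, nat_lit 0, nat_lit 0, nat_lit 5, nat_lit 2, nat_lit 0, nat_lit 0, nat_lit 0, nat_lit 0, nat_lit 0, nat_lit 0, nat_lit 5, nat_lit 6, nat_lit 2, nat_lit 1, nat_lit 4, nat_lit 0, nat_lit 5, nat_lit 0, nat_lit 0, nat_lit 4, nat_lit 5, nat_lit 0, nat_lit 7, nat_lit 0, nat_lit 0, nat_lit 5, nat_lit 7, nat_lit 0, nat_lit 0, nat_lit 0, nat_lit 7, nat_lit 0, nat_lit 0, nat_lit 7, nat_lit 2, nat_lit 0, nat_lit 0, nat_lit 0, nat_lit 6, nat_lit 2, nat_lit 1, nat_lit 5, nat_lit 2, nat_lit 0, nat_lit 0, nat_lit 7, nat_lit 4, nat_lit 0, nat_lit 0, nat_lit 0, nat_lit 5, nat_lit 7, nat_lit 2, nat_lit 0, nat_lit 0, nat_lit 0, nat_lit 7, nat_lit 1, nat_lit 4, nat_lit 2, nat_lit 0, nat_lit 5, nat_lit 0, nat_lit 0, nat_lit 5, nat_lit 0, nat_lit 0, nat_lit 2, nat_lit 0, nat_lit 4, nat_lit 5, nat_lit 0, nat_lit 0, nat_lit 5, nat_lit 0, nat_lit 0, nat_lit 0,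 nat_lit 7, nat_lit 2, nat_lit 1, nat_lit 0, nat_lit 4, nat_lit 0, nat_lit 5, nat_lit 0, nat_lit 0, nat_lit 0, nat_lit 0, nat_lit 7, nat_lit 0, nat_lit 0, nat_lit 5, nat_lit 2, nat_lit 6, nat_lit 2, nat_lit 4, nat_lit 7, nat_lit 0, nat_lit 0, nat_lit 0, nat_lit 0, nat_lit 0, nat_lit 6, nat_lit 2, nat_lit 1, nat_lit 4, nat_lit 2, nat_lit 0, nat_lit 0, nat_lit 0, nat_lit 4, nat_lit 7, nat_lit 2, nat_lit 0, nat_lit 0, nat_lit 0, nat_lit 7, nat_lit 2, nat_lit 0, nat_lit 4, nat_lit 5, nat_lit 0, nat_lit 0, nat_lit 5, nat_lit 0, nat_lit 0, nat_lit 0, nat_lit 7, nat_lit 2, nat_lit 1, nat_lit 0, nat_lit 4, nat_lit 0, nat_lit 5, nat_lit 0, nat_lit 0, nat_lit 0, nat_lit 0, nat_lit 7, nat_lit 0, nat_lit 0, nat_lit 6, nat_lit 0, nat_lit 0, nat_lit 4, nat_lit 2, nat_lit 1, nat_lit 6, nat_lit 2, nat_lit 4, nat_lit 0, nat_lit 5, nat_lit 0, nat_lit 7, nat_lit 0, nat_lit 0, nat_lit 7, nat_lit 2,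 nat_lit 0, nat_lit 0, nat_lit 0, nat_lit 7, nat_lit 0, nat_lit 0, nat_lit 6, nat_lit 7, nat_lit 2, nat_lit 1, nat_lit 0, nat_lit 4, nat_lit 7, nat_lit 0, nat_lit 0, nat_lit 5, nat_lit 7, nat_lit 0, nat_lit 0, nat_lit 0, nat_lit 0, nat_lit 0, nat_lit 7, nat_lit 0, nat_lit 0, nat_lit 5, nat_lit 7, nat_lit 2, nat_lit 6, nat_lit 0, nat_lit 0, nat_lit 0, nat_lit 0, nat_lit 0, nat_lit 5, nat_lit 2, nat_lit 1, nat_lit 6, nat_lit 2, nat_lit 4, nat_lit 0, nat_lit 5, nat_lit 0, nat_lit 7, nat_lit 0, nat_lit 0, nat_lit 7, nat_lit 2, nat_lit 0, nat_lit 0, nat_lit 0, nat_lit 7, nat_lit 0, nat_lit 0, nat_lit 6, nat_lit 7, nat_lit 2, nat_lit 1, nat_lit 0, nat_lit 4, nat_lit 7, nat_lit 0, nat_lit 0, nat_lit 5, nat_lit 7, nat_lit 0, nat_lit 0, nat_lit 0, nat_lit 0, nat_lit 0, nat_lit 7]) 180 = true := by decide +kernel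
theorem k_l1 : cdA.lvlX [nat_lit 10, nat_lit 0, nat_lit 693] kX kZ
    []
    (.dif (.and (.adj (nat_lit 2)) (.adj (nat_lit 0))) (.adj (nat_lit 1)))
    (.tt) 7 [] []
    (pick (lmap .ps kW) [nat_lit 0, nat_lit 1, nat_lit 2, nat_lit 3, nat_lit 4, nat_lit 5, nat_lit 6]) (.stk [nat_lit 7, nat_lit 2, nat_lit 1, nat_lit 4, nat_lit 2, nat_lit 7, nat_lit 0, nat_lit 0, nat_lit 5, nat_lit 0, nat_lit 0, nat_lit 5, nat_lit 2, nat_lit 7, nat_lit 0, nat_lit 0, nat_lit 0, nat_lit 6, nat_lit 6, nat_lit 7, nat_lit 2, nat_lit 1, nat_lit 0, nat_lit 4, nat_lit 0, nat_lit 5, nat_lit 0, nat_lit 0, nat_lit 0, nat_lit 0, nat_lit 7, nat_lit 2, nat_lit 4, nat_lit 6, nat_lit 7, nat_lit 0, nat_lit 0, nat_lit 0, nat_lit 5, nat_lit 6, nat_lit 7, nat_lit 0, nat_lit 0, nat_lit 0, nat_lit 6, nat_lit 0, nat_lit 0, nat_lit 6, nat_lit 1, nat_lit 2, nat_lit 7, nat_lit 0, nat_lit 0, nat_lit 0, nat_lit 4, nat_lit 0,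 nat_lit 5, nat_lit 0, nat_lit 0, nat_lit 0, nat_lit 0, nat_lit 0, nat_lit 4, nat_lit 5, nat_lit 2, nat_lit 7, nat_lit 0, nat_lit 0, nat_lit 0, nat_lit 6, nat_lit 6, nat_lit 7, nat_lit 2, nat_lit 1, nat_lit 0, nat_lit 0, nat_lit 0, nat_lit 0, nat_lit 7, nat_lit 2, nat_lit 5, nat_lit 0, nat_lit 0, nat_lit 6, nat_lit 0, nat_lit 0, nat_lit 0, nat_lit 0, nat_lit 5, nat_lit 6, nat_lit 6, nat_lit 7, nat_lit 2, nat_lit 0, nat_lit 0, nat_lit 0, nat_lit 7, nat_lit 2, nat_lit 0, nat_lit 6, nat_lit 0, nat_lit 0, nat_lit 0, nat_lit 0, nat_lit 6, nat_lit 1, nat_lit 6, nat_lit 7, nat_lit 2, nat_lit 5, nat_lit 0, nat_lit 0, nat_lit 0, nat_lit 0, nat_lit 7, nat_lit 6, nat_lit 0, nat_lit 0, nat_lit 0, nat_lit 4, nat_lit 6, nat_lit 7, nat_lit 2, nat_lit 0, nat_lit 0, nat_lit 0, nat_lit 7, nat_lit 0, nat_lit 0, nat_lit 5, nat_lit 6, nat_lit 7, nat_lit 2, nat_lit 0, nat_lit 0, nat_lit 0, nat_lit 7,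 nat_lit 2, nat_lit 0, nat_lit 0, nat_lit 0, nat_lit 6, nat_lit 4, nat_lit 7, nat_lit 2, nat_lit 0, nat_lit 0, nat_lit 0, nat_lit 7, nat_lit 2, nat_lit 1, nat_lit 0, nat_lit 4, nat_lit 0, nat_lit 5, nat_lit 0, nat_lit 0, nat_lit 6, nat_lit 5, nat_lit 0, nat_lit 0, nat_lit 0, nat_lit 0, nat_lit 7, nat_lit 2, nat_lit 1, nat_lit 0, nat_lit 4, nat_lit 0, nat_lit 5, nat_lit 0, nat_lit 0, nat_lit 0, nat_lit 0, nat_lit 0, nat_lit 6, nat_lit 1, nat_lit 2, nat_lit 7, nat_lit 2, nat_lit 0, nat_lit 6, nat_lit 0, nat_lit 0, nat_lit 0, nat_lit 6, nat_lit 7, nat_lit 6, nat_lit 0, nat_lit 0, nat_lit 0, nat_lit 7, nat_lit 2, nat_lit 5, nat_lit 0, nat_lit 0, nat_lit 0, nat_lit 0, nat_lit 4, nat_lit 6, nat_lit 7, nat_lit 0, nat_lit 0, nat_lit 7, nat_lit 2, nat_lit 0, nat_lit 0, nat_lit 0, nat_lit 5, nat_lit 6, nat_lit 7, nat_lit 2, nat_lit 0, nat_lit 0, nat_lit 0, nat_lit 7, nat_lit 2, nat_lit 0,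 nat_lit 0, nat_lit 0, nat_lit 6, nat_lit 7, nat_lit 2, nat_lit 1, nat_lit 0, nat_lit 4, nat_lit 0, nat_lit 5, nat_lit 0, nat_lit 0, nat_lit 6, nat_lit 6, nat_lit 7, nat_lit 0, nat_lit 0, nat_lit 0, nat_lit 0, nat_lit 0, nat_lit 7, nat_lit 2, nat_lit 1, nat_lit 0, nat_lit 4, nat_lit 0, nat_lit 5, nat_lit 0, nat_lit 0, nat_lit 6, nat_lit 4]) 128 = true := by decide +kernel
theorem k_l2 : lvlO cdA [nat_lit 7, nat_lit 10, nat_lit 0, nat_lit 693] kX kZ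
    [.tr (.pt (nat_lit 0)) (.pt (nat_lit 2))]
    (.dif (.dif (.dif (.dif (.adj (nat_lit 4)) (.adj (nat_lit 1))) (.adj (nat_lit 3))) (.adj (nat_lit 0))) (.adj (nat_lit 2)))
    (.tt) 20 []
    (pick (lmap .ps kW) [nat_lit 1, nat_lit 5]) (.stk [nat_lit 2, nat_lit 1, nat_lit 2, nat_lit 2, nat_lit 1, nat_lit 2, nat_lit 2, nat_lit 1, nat_lit 2, nat_lit 2, nat_lit 2, nat_lit 0, nat_lit 0, nat_lit 0, nat_lit 0, nat_lit 2, nat_lit 1, nat_lit 2, nat_lit 2, nat_lit 1, nat_lit 2, nat_lit 2, nat_lit 0, nat_lit 0, nat_lit 0, nat_lit 0, nat_lit 0, nat_lit 0, nat_lit 0, nat_lit 0, nat_lit 0, nat_lit 0, nat_lit 2, nat_lit 1, nat_lit 2, nat_lit 2, nat_lit 1, nat_lit 2, nat_lit 2, nat_lit 0, nat_lit 0, nat_lit 0, nat_lit 0, nat_lit 0, nat_lit 0, nat_lit 2, nat_lit 1, nat_lit 2, nat_lit 1, nat_lit 2, nat_lit 1, nat_lit 2, nat_lit 2, nat_lit 0, nat_lit 0, nat_lit 0, nat_lit 0, nat_lit 0, nat_lit 2,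 nat_lit 0, nat_lit 0, nat_lit 0, nat_lit 2, nat_lit 1, nat_lit 2, nat_lit 2, nat_lit 0, nat_lit 0, nat_lit 0, nat_lit 0, nat_lit 0, nat_lit 0, nat_lit 0, nat_lit 0, nat_lit 0, nat_lit 2, nat_lit 1, nat_lit 2, nat_lit 1, nat_lit 2, nat_lit 2, nat_lit 1, nat_lit 2, nat_lit 2, nat_lit 2, nat_lit 0, nat_lit 0, nat_lit 0, nat_lit 0, nat_lit 0, nat_lit 0, nat_lit 0, nat_lit 2, nat_lit 1, nat_lit 2, nat_lit 2, nat_lit 0, nat_lit 0, nat_lit 0, nat_lit 2, nat_lit 1, nat_lit 2, nat_lit 1, nat_lit 2, nat_lit 1, nat_lit 2, nat_lit 1, nat_lit 2, nat_lit 0, nat_lit 0, nat_lit 2, nat_lit 0, nat_lit 0, nat_lit 0, nat_lit 0, nat_lit 0, nat_lit 2, nat_lit 0, nat_lit 0, nat_lit 0, nat_lit 2, nat_lit 2, nat_lit 0, nat_lit 0, nat_lit 0, nat_lit 0, nat_lit 0, nat_lit 0, nat_lit 2, nat_lit 1, nat_lit 2, nat_lit 1, nat_lit 2, nat_lit 1, nat_lit 2, nat_lit 2, nat_lit 2, nat_lit 2, nat_lit 2, nat_lit 1,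 nat_lit 0, nat_lit 0, nat_lit 0, nat_lit 0, nat_lit 0, nat_lit 0, nat_lit 0, nat_lit 0, nat_lit 0, nat_lit 2, nat_lit 1, nat_lit 2, nat_lit 2, nat_lit 2, nat_lit 0, nat_lit 0, nat_lit 0, nat_lit 0, nat_lit 0, nat_lit 0, nat_lit 0, nat_lit 2, nat_lit 1, nat_lit 2, nat_lit 2, nat_lit 0, nat_lit 0, nat_lit 0, nat_lit 2, nat_lit 1, nat_lit 2, nat_lit 1, nat_lit 2, nat_lit 1, nat_lit 2, nat_lit 2, nat_lit 0, nat_lit 0, nat_lit 0, nat_lit 0, nat_lit 0, nat_lit 2]) 96 kT = true := by decide +kernel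
theorem k_l3 : cdA.lvlX [nat_lit 20, nat_lit 7, nat_lit 10, nat_lit 0, nat_lit 693] kX kZ
    [.tr (.pt (nat_lit 0)) (.pt (nat_lit 1)), .tr (.pt (nat_lit 1)) (.pt (nat_lit 4)), .tr (.pt (nat_lit 4)) (.pt (nat_lit 1)), .tr (.pt (nat_lit 1)) (.pt (nat_lit 0))]
    (.dif (.and (.adj (nat_lit 0)) (.and (.adj (nat_lit 6)) (.and (.adj (nat_lit 7)) (.adj (nat_lit 5))))) (.adj (nat_lit 4)))
    (.tt) 708 [] []
    (pick (lmap .ps kW) [nat_lit 0, nat_lit 1, nat_lit 2]) (.stk [nat_lit 1, nat_lit 2, nat_lit 1, nat_lit 3, nat_lit 0, nat_lit 0, nat_lit 3, nat_lit 0, nat_lit 0, nat_lit 3, nat_lit 0, nat_lit 0, nat_lit 2, nat_lit 1, nat_lit 3, nat_lit 0, nat_lit 0, nat_lit 3, nat_lit 0, nat_lit 0, nat_lit 3]) 12 = true := by decide +kernel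
theorem k_l4 : cdA.lvlX [nat_lit 708, nat_lit 20, nat_lit 7, nat_lit 10, nat_lit 0, nat_lit 693] kX kZ
    [.tr (.pt (nat_lit 0)) (.pt (nat_lit 1)), .tr (.pt (nat_lit 2)) (.pt (nat_lit 3)), .tr (.pt (nat_lit 3)) (.pt (nat_lit 5)), .tr (.pt (nat_lit 5)) (.pt (nat_lit 7)), .tr (.pt (nat_lit 4)) (.pt (nat_lit 9)), .tr (.pt (nat_lit 8)) (.pt (nat_lit 4)), .tr (.pt (nat_lit 10)) (.pt (nat_lit 5)), .tr (.pt (nat_lit 5)) (.pt (nat_lit 2)), .tr (.pt (nat_lit 5)) (.pt (nat_lit 3)), .tr (.pt (nat_lit 3)) (.pt (nat_lit 1)), .tr (.pt (nat_lit 3)) (.pt (nat_lit 1))]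
    (.dif (.and (.adj (nat_lit 0)) (.and (.adj (nat_lit 1)) (.and (.adj (nat_lit 16)) (.and (.adj (nat_lit 7)) (.and (.adj (nat_lit 9)) (.adj (nat_lit 14))))))) (.adj (nat_lit 12)))
    (.tt) 15 [] []
    (pick (lmap .ps kW) []) (.simd []) 1 = true := by decide +kernel
theorem k_b : (cdA.ltL [nat_lit 15, nat_lit 708, nat_lit 20, nat_lit 7, nat_lit 10, nat_lit 0, nat_lit 693] && subL cdA.bs (cdA.ext ⟨[nat_lit 15, nat_lit 708, nat_lit 20, nat_lit 7, nat_lit 10, nat_lit 0, nat_lit 693], kX, kZ⟩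
    [.tr (.pt (nat_lit 0)) (.pt (nat_lit 1)), .tr (.pt (nat_lit 1)) (.pt (nat_lit 3)), .tr (.pt (nat_lit 3)) (.pt (nat_lit 4)), .tr (.pt (nat_lit 5)) (.pt (nat_lit 6)), .tr (.pt (nat_lit 4)) (.pt (nat_lit 9)), .tr (.pt (nat_lit 6)) (.pt (nat_lit 11)), .tr (.pt (nat_lit 11)) (.pt (nat_lit 5)), .tr (.pt (nat_lit 11)) (.pt (nat_lit 5)), .tr (.pt (nat_lit 13)) (.pt (nat_lit 5)), .tr (.pt (nat_lit 11)) (.pt (nat_lit 4)), .tr (.pt (nat_lit 7)) (.pt (nat_lit 3)), .tr (.pt (nat_lit 16)) (.pt (nat_lit 3)), .tr (.pt (nat_lit 18)) (.pt (nat_lit 3)), .tr (.pt (nat_lit 12)) (.pt (nat_lit 3)), .tr (.pt (nat_lit 10)) (.pt (nat_lit 3)), .tr (.pt (nat_lit 12)) (.pt (nat_lit 3)), .tr (.pt (nat_lit 14)) (.pt (nat_lit 3)), .tr (.pt (nat_lit 23)) (.pt (nat_lit 3)), .tr (.pt (nat_lit 22)) (.pt (nat_lit 3)), .tr (.pt (nat_lit 19)) (.pt (nat_lit 3)), .tr (.pt (nat_lit 24)) (.pt (nat_lit 3)), .tr (.pt (nat_lit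 26)) (.pt (nat_lit 2)), .tr (.pt (nat_lit 26)) (.pt (nat_lit 2)), .tr (.pt (nat_lit 25)) (.pt (nat_lit 2)), .tr (.pt (nat_lit 21)) (.pt (nat_lit 2)), .tr (.pt (nat_lit 31)) (.pt (nat_lit 2))])) = true := by decide +kernel
theorem k_res {G : Type*} [Group G] [Finite G] {D : Set G} {β : ℕ → G} {A : Mdl (MulAut G) (MulAut.conj '' D) cdA}
    (h : AM D β A) {H : Subgroup (MulAut G)} (hH : A.Stab H kX kZ) (hG : ∀ a ∈ (lmap .ps kW), A.ev a ∈ H) (hT : A.ev kT ∈ H) :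
    Res (H ⊓ Inn G ⊓ A.FixL [nat_lit 0, nat_lit 693]) (A.clo (lmap .ps kW)) 26542080 :=
  have hH' := hH.mono (inf_le_left (b := Inn G))
  have hI := h.clo_le_inn k_lt
  have hG' : ∀ a ∈ (lmap .ps kW), A.ev a ∈ H ⊓ Inn G := fun a ha => ⟨hG a ha, hI (A.mem_clo ha)⟩
  Mdl.step hH' (Mdl.pick_mem hG' _) k_l0 <|
  Mdl.step hH' (Mdl.pick_mem hG' _) k_l1 <|
  Mdl.stepO hH hI (Mdl.pick_mem hG _) hT (h.out_not_mem (by decide)) k_l2 <|
  Mdl.step hH (Mdl.pick_mem hG _) k_l3 <|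
  Mdl.step hH (Mdl.pick_mem hG _) k_l4 <|
  Mdl.base hH _ (by decide) k_b
theorem k_hs : Fi.lall (hsChk cdA kX kZ) (kT :: lmap .ps kW) = true := by decide +kernel
theorem k_fx : (cdA.ltL [nat_lit 0, nat_lit 693] && cdA.allFix (lmap .ps kW) [nat_lit 0, nat_lit 693]) = true := by decide +kernel
theorem k_G {G : Type*} [Group G] [Finite G] {D : Set G} {β : ℕ → G} {A : Mdl (MulAut G) (MulAut.conj '' D) cdA}
    (h : AM D β A) :
    GH A kX kZ [nat_lit 0, nat_lit 693] = pcl β kW ∧ Nat.card (pcl β kW) = 26542080 :=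
  have k := List.forall_mem_cons.1 (Mdl.all_HS (M := A) k_hs)
  h.finI k_lt k.2 k_fx (k_res h Mdl.stab_HS k.2 k.1)
def qX : List Ex := [.ps [nat_lit 693, nat_lit 0]]
noncomputable def qZ : List ℕ := [zf (nat_lit 1), zf (nat_lit 4), zf (nat_lit 2), zf (nat_lit 15), zf (nat_lit 5), zf (nat_lit 30), zf (nat_lit 9), zf (nat_lit 44), zf (nat_lit 46), zf (nat_lit 62), zf (nat_lit 6), zf (nat_lit 45), zf (nat_lit 35), zf (nat_lit 51), zf (nat_lit 10), zf (nat_lit 19), zf (nat_lit 59), zf (nat_lit 55), zf (nat_lit 39), zf (nat_lit 28), zf (nat_lit 27), zf (nat_lit 29), zf (nat_lit 8), zf (nat_lit 23), zf (nat_lit 43), zf (nat_lit 61), zf (nat_lit 60)]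
def qW : List (List ℕ) := [[nat_lit 0], [nat_lit 693], [nat_lit 13, nat_lit 664], [nat_lit 139, nat_lit 664], [nat_lit 18, nat_lit 680], [nat_lit 146, nat_lit 679], [nat_lit 195, nat_lit 332], [nat_lit 269, nat_lit 550], [nat_lit 91, nat_lit 626], [nat_lit 368, nat_lit 516]]
def qT : Ex := .mul (.w [nat_lit 32]) (.ps [nat_lit 212, nat_lit 615, nat_lit 1656, nat_lit 2604])
theorem q_lt : Fi.lall cdA.ltL qW = true := by decide +kernel
theorem q_l0 : cdA.lvlX [] qX qZ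
    []
    (.dif (.and (.env (nat_lit 1)) (.env (nat_lit 0))) (.env (nat_lit 2)))
    (.tt) 10 [] []
    (pick (qT :: lmap .ps qW) [nat_lit 9, nat_lit 10]) (.stk [nat_lit 1, nat_lit 2, nat_lit 0, nat_lit 0, nat_lit 2]) 4 = true := by decide +kernel
theorem q_l1 : cdA.lvlX [nat_lit 10] qX qZ
    []
    (.dif (.and (.env (nat_lit 7)) (.env (nat_lit 0))) (.env (nat_lit 1)))
    (.tt) 13 [] []
    (pick (qT :: lmap .ps qW) [nat_lit 7, nat_lit 8]) (.stk [nat_lit 1, nat_lit 2, nat_lit 0, nat_lit 0, nat_lit 2]) 4 = true := by decide +kernel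
theorem q_l2 : cdA.lvlX [nat_lit 13, nat_lit 10] qX qZ
    []
    (.dif (.and (.env (nat_lit 11)) (.env (nat_lit 9))) (.env (nat_lit 0)))
    (.tt) 21 [] []
    (pick (qT :: lmap .ps qW) [nat_lit 5, nat_lit 6]) (.stk [nat_lit 1, nat_lit 2, nat_lit 0, nat_lit 0, nat_lit 2]) 4 = true := by decide +kernel
theorem q_l3 : cdA.lvlX [nat_lit 21, nat_lit 13, nat_lit 10] qX qZ
    []
    (.dif (.and (.env (nat_lit 9)) (.env (nat_lit 4))) (.env (nat_lit 0)))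
    (.tt) 26 [] []
    (pick (qT :: lmap .ps qW) [nat_lit 3, nat_lit 4]) (.stk [nat_lit 1, nat_lit 2, nat_lit 0, nat_lit 0, nat_lit 2]) 4 = true := by decide +kernel
theorem q_l4 : cdA.lvlX [nat_lit 26, nat_lit 21, nat_lit 13, nat_lit 10] qX qZ
    []
    (.and (.env (nat_lit 2)) (.env (nat_lit 0)))
    (.tt) 0 [] []
    (pick (qT :: lmap .ps qW) [nat_lit 0]) (.stk [nat_lit 1]) 2 = true := by decide +kernel
theorem q_l5 : cdA.lvlX [nat_lit 0, nat_lit 26, nat_lit 21, nat_lit 13, nat_lit 10] qX qZ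
    []
    (.dif (.and (.adj (nat_lit 4)) (.and (.adj (nat_lit 2)) (.and (.adj (nat_lit 3)) (.and (.adj (nat_lit 1)) (.adj (nat_lit 0)))))) (.env (nat_lit 0)))
    (.tt) 1393 [] []
    (pick (qT :: lmap .ps qW) [nat_lit 2]) (.stk [nat_lit 1]) 2 = true := by decide +kernel
theorem q_l6 : cdA.lvlX [nat_lit 1393, nat_lit 0, nat_lit 26, nat_lit 21, nat_lit 13, nat_lit 10] qX qZ
    [.app (nat_lit 0) (.pt (nat_lit 0))]
    (.dif (.and (.adj (nat_lit 5)) (.and (.adj (nat_lit 4)) (.and (.adj (nat_lit 3)) (.and (.adj (nat_lit 0)) (.adj (nat_lit 1)))))) (.env (nat_lit 9)))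
    (.tt) 212 [] []
    (pick (qT :: lmap .ps qW) [nat_lit 1]) (.stk [nat_lit 1]) 2 = true := by decide +kernel
theorem q_l7 : cdA.lvlX [nat_lit 212, nat_lit 1393, nat_lit 0, nat_lit 26, nat_lit 21, nat_lit 13, nat_lit 10] qX qZ
    []
    (.dif (.and (.adj (nat_lit 0)) (.and (.env (nat_lit 7)) (.env (nat_lit 3)))) (.env (nat_lit 0)))
    (.tt) 49 [] []
    (pick (qT :: lmap .ps qW) []) (.simd []) 1 = true := by decide +kernel
theorem q_l8 : cdA.lvlX [nat_lit 49, nat_lit 212, nat_lit 1393, nat_lit 0, nat_lit 26, nat_lit 21, nat_lit 13, nat_lit 10] qX qZ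
    [.tr (.pt (nat_lit 0)) (.pt (nat_lit 2)), .tr (.pt (nat_lit 6)) (.pt (nat_lit 0))]
    (.dif (.and (.adj (nat_lit 0)) (.and (.env (nat_lit 17)) (.env (nat_lit 7)))) (.env (nat_lit 0)))
    (.tt) 39 [] []
    (pick (qT :: lmap .ps qW) []) (.simd []) 1 = true := by decide +kernel
theorem q_b : (cdA.ltL [nat_lit 39, nat_lit 49, nat_lit 212, nat_lit 1393, nat_lit 0, nat_lit 26, nat_lit 21, nat_lit 13, nat_lit 10] && subL cdA.bs (cdA.ext ⟨[nat_lit 39, nat_lit 49, nat_lit 212, nat_lit 1393, nat_lit 0, nat_lit 26, nat_lit 21, nat_lit 13, nat_lit 10], qX, qZ⟩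
    [.tr (.pt (nat_lit 0)) (.pt (nat_lit 2)), .app (nat_lit 0) (.pt (nat_lit 4)), .tr (.pt (nat_lit 2)) (.pt (nat_lit 5)), .tr (.pt (nat_lit 4)) (.pt (nat_lit 6)), .tr (.pt (nat_lit 4)) (.pt (nat_lit 9)), .tr (.pt (nat_lit 6)) (.pt (nat_lit 2)), .tr (.pt (nat_lit 11)) (.pt (nat_lit 3)), .tr (.pt (nat_lit 12)) (.pt (nat_lit 3)), .tr (.pt (nat_lit 14)) (.pt (nat_lit 3)), .tr (.pt (nat_lit 17)) (.pt (nat_lit 4)), .tr (.pt (nat_lit 15)) (.pt (nat_lit 4)), .tr (.pt (nat_lit 10)) (.pt (nat_lit 4)), .tr (.pt (nat_lit 11)) (.pt (nat_lit 4)), .tr (.pt (nat_lit 14)) (.pt (nat_lit 4)), .tr (.pt (nat_lit 15)) (.pt (nat_lit 4)), .tr (.pt (nat_lit 16)) (.pt (nat_lit 4)), .tr (.pt (nat_lit 24)) (.pt (nat_lit 4)), .tr (.pt (nat_lit 23)) (.pt (nat_lit 4)), .tr (.pt (nat_lit 17)) (.pt (nat_lit 4)), .tr (.pt (nat_lit 18)) (.pt (nat_lit 4)), .tr (.pt (nat_lit 27)) (.pt (nat_lit 4)), .tr (.pt (nat_lit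 22)) (.pt (nat_lit 4)), .tr (.pt (nat_lit 23)) (.pt (nat_lit 4)), .tr (.pt (nat_lit 28)) (.pt (nat_lit 4)), .tr (.pt (nat_lit 27)) (.pt (nat_lit 4)), .tr (.pt (nat_lit 30)) (.pt (nat_lit 4)), .tr (.pt (nat_lit 31)) (.pt (nat_lit 4)), .tr (.pt (nat_lit 32)) (.pt (nat_lit 4)), .tr (.pt (nat_lit 26)) (.pt (nat_lit 4)), .tr (.pt (nat_lit 34)) (.pt (nat_lit 4)), .tr (.pt (nat_lit 38)) (.pt (nat_lit 4)), .tr (.pt (nat_lit 29)) (.pt (nat_lit 4)), .tr (.pt (nat_lit 40)) (.pt (nat_lit 2)), .tr (.pt (nat_lit 34)) (.pt (nat_lit 2))])) = true := by decide +kernel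
theorem q_res {G : Type*} [Group G] [Finite G] {D : Set G} {β : ℕ → G} {A : Mdl (MulAut G) (MulAut.conj '' D) cdA}
    (_h : AM D β A) {H : Subgroup (MulAut G)} (hH : A.Stab H qX qZ) (hG : ∀ a ∈ (qT :: lmap .ps qW), A.ev a ∈ H) :
    Res (H ⊓ A.FixL []) (A.clo (qT :: lmap .ps qW)) 2048 :=
  Mdl.step hH (Mdl.pick_mem hG _) q_l0 <|
  Mdl.step hH (Mdl.pick_mem hG _) q_l1 <|
  Mdl.step hH (Mdl.pick_mem hG _) q_l2 <|
  Mdl.step hH (Mdl.pick_mem hG _) q_l3 <|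
  Mdl.step hH (Mdl.pick_mem hG _) q_l4 <|
  Mdl.step hH (Mdl.pick_mem hG _) q_l5 <|
  Mdl.step hH (Mdl.pick_mem hG _) q_l6 <|
  Mdl.step hH (Mdl.pick_mem hG _) q_l7 <|
  Mdl.step hH (Mdl.pick_mem hG _) q_l8 <|
  Mdl.base hH _ (by decide) q_b
theorem q_hs : Fi.lall (hsChk cdA qX qZ) (qT :: lmap .ps qW) = true := by decide +kernel
theorem q_fx : (cdA.ltL [] && cdA.allFix (qT :: lmap .ps qW) []) = true := by decide +kernel
theorem q_A {G : Type*} [Group G] [Finite G] {D : Set G} {β : ℕ → G} {A : Mdl (MulAut G) (MulAut.conj '' D) cdA}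
    (h : AM D β A) :
    A.HS qX qZ ⊓ A.FixL [] = A.clo (qT :: lmap .ps qW) ∧ Nat.card (A.clo (qT :: lmap .ps qW)) = 2048 :=
  Mdl.fin q_hs q_fx (q_res h Mdl.stab_HS (Mdl.all_HS q_hs))
def eX : List Ex := [.ps [nat_lit 693, nat_lit 0]]
noncomputable def eZ : List ℕ := [zf (nat_lit 1), zf (nat_lit 4), zf (nat_lit 2), zf (nat_lit 15), zf (nat_lit 5), zf (nat_lit 30), zf (nat_lit 9), zf (nat_lit 44), zf (nat_lit 46), zf (nat_lit 62), zf (nat_lit 6), zf (nat_lit 45), zf (nat_lit 35), zf (nat_lit 51), zf (nat_lit 10), zf (nat_lit 19), zf (nat_lit 59), zf (nat_lit 55), zf (nat_lit 39), zf (nat_lit 28), zf (nat_lit 27), zf (nat_lit 29), zf (nat_lit 8), zf (nat_lit 23), zf (nat_lit 43), zf (nat_lit 61), zf (nat_lit 60)]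
def eW : List (List ℕ) := [[nat_lit 0], [nat_lit 693], [nat_lit 242, nat_lit 664], [nat_lit 13, nat_lit 664], [nat_lit 132, nat_lit 679], [nat_lit 132, nat_lit 146], [nat_lit 257, nat_lit 270], [nat_lit 314, nat_lit 610], [nat_lit 298, nat_lit 407], [nat_lit 397, nat_lit 543]]
def eT : Ex := .mul (.w [nat_lit 32]) (.ps [nat_lit 212, nat_lit 615, nat_lit 1656, nat_lit 2604])
theorem e_lt : Fi.lall cdA.ltL eW = true := by decide +kernel
theorem e_l0 : cdA.lvlX [] eX eZ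
    []
    (.dif (.and (.env (nat_lit 1)) (.env (nat_lit 0))) (.env (nat_lit 2)))
    (.tt) 10 [] []
    (pick (lmap .ps eW) [nat_lit 8, nat_lit 9]) (.stk [nat_lit 1, nat_lit 2, nat_lit 0, nat_lit 0, nat_lit 2]) 4 = true := by decide +kernel
theorem e_l1 : cdA.lvlX [nat_lit 10] eX eZ
    []
    (.dif (.and (.env (nat_lit 7)) (.env (nat_lit 0))) (.env (nat_lit 1)))
    (.tt) 13 [] []
    (pick (lmap .ps eW) [nat_lit 6, nat_lit 7]) (.stk [nat_lit 1, nat_lit 2, nat_lit 0, nat_lit 0, nat_lit 2]) 4 = true := by decide +kernel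
theorem e_l2 : cdA.lvlX [nat_lit 13, nat_lit 10] eX eZ
    []
    (.dif (.and (.env (nat_lit 11)) (.env (nat_lit 9))) (.env (nat_lit 0)))
    (.tt) 21 [] []
    (pick (lmap .ps eW) [nat_lit 4, nat_lit 5]) (.stk [nat_lit 1, nat_lit 2, nat_lit 0, nat_lit 0, nat_lit 2]) 4 = true := by decide +kernel
theorem e_l3 : cdA.lvlX [nat_lit 21, nat_lit 13, nat_lit 10] eX eZ
    []
    (.dif (.and (.env (nat_lit 9)) (.env (nat_lit 4))) (.env (nat_lit 0)))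
    (.tt) 26 [] []
    (pick (lmap .ps eW) [nat_lit 2, nat_lit 3]) (.stk [nat_lit 1, nat_lit 2, nat_lit 0, nat_lit 0, nat_lit 2]) 4 = true := by decide +kernel
theorem e_l4 : lvlO cdA [nat_lit 26, nat_lit 21, nat_lit 13, nat_lit 10] eX eZ
    []
    (.and (.env (nat_lit 2)) (.env (nat_lit 0)))
    (.tt) 0 []
    (pick (lmap .ps eW) []) (.simd []) 1 eT = true := by decide +kernel
theorem e_l5 : cdA.lvlX [nat_lit 0, nat_lit 26, nat_lit 21, nat_lit 13, nat_lit 10] eX eZ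
    []
    (.dif (.and (.adj (nat_lit 4)) (.and (.adj (nat_lit 2)) (.and (.adj (nat_lit 3)) (.and (.adj (nat_lit 1)) (.adj (nat_lit 0)))))) (.env (nat_lit 0)))
    (.tt) 1393 [] []
    (pick (lmap .ps eW) [nat_lit 1]) (.stk [nat_lit 1]) 2 = true := by decide +kernel
theorem e_l6 : cdA.lvlX [nat_lit 1393, nat_lit 0, nat_lit 26, nat_lit 21, nat_lit 13, nat_lit 10] eX eZ
    [.app (nat_lit 0) (.pt (nat_lit 0))]
    (.dif (.and (.adj (nat_lit 5)) (.and (.adj (nat_lit 4)) (.and (.adj (nat_lit 3)) (.and (.adj (nat_lit 0)) (.adj (nat_lit 1)))))) (.env (nat_lit 9)))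
    (.tt) 212 [] []
    (pick (lmap .ps eW) [nat_lit 0]) (.stk [nat_lit 1]) 2 = true := by decide +kernel
theorem e_l7 : cdA.lvlX [nat_lit 212, nat_lit 1393, nat_lit 0, nat_lit 26, nat_lit 21, nat_lit 13, nat_lit 10] eX eZ
    []
    (.dif (.and (.adj (nat_lit 0)) (.and (.env (nat_lit 7)) (.env (nat_lit 3)))) (.env (nat_lit 0)))
    (.tt) 49 [] []
    (pick (lmap .ps eW) []) (.simd []) 1 = true := by decide +kernel
theorem e_l8 : cdA.lvlX [nat_lit 49, nat_lit 212, nat_lit 1393, nat_lit 0, nat_lit 26, nat_lit 21, nat_lit 13, nat_lit 10] eX eZ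
    [.tr (.pt (nat_lit 0)) (.pt (nat_lit 2)), .tr (.pt (nat_lit 6)) (.pt (nat_lit 0))]
    (.dif (.and (.adj (nat_lit 0)) (.and (.env (nat_lit 17)) (.env (nat_lit 7)))) (.env (nat_lit 0)))
    (.tt) 39 [] []
    (pick (lmap .ps eW) []) (.simd []) 1 = true := by decide +kernel
theorem e_b : (cdA.ltL [nat_lit 39, nat_lit 49, nat_lit 212, nat_lit 1393, nat_lit 0, nat_lit 26, nat_lit 21, nat_lit 13, nat_lit 10] && subL cdA.bs (cdA.ext ⟨[nat_lit 39, nat_lit 49, nat_lit 212, nat_lit 1393, nat_lit 0, nat_lit 26, nat_lit 21, nat_lit 13, nat_lit 10], eX, eZ⟩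
    [.tr (.pt (nat_lit 0)) (.pt (nat_lit 2)), .app (nat_lit 0) (.pt (nat_lit 4)), .tr (.pt (nat_lit 2)) (.pt (nat_lit 5)), .tr (.pt (nat_lit 4)) (.pt (nat_lit 6)), .tr (.pt (nat_lit 4)) (.pt (nat_lit 9)), .tr (.pt (nat_lit 6)) (.pt (nat_lit 2)), .tr (.pt (nat_lit 11)) (.pt (nat_lit 3)), .tr (.pt (nat_lit 12)) (.pt (nat_lit 3)), .tr (.pt (nat_lit 14)) (.pt (nat_lit 3)), .tr (.pt (nat_lit 17)) (.pt (nat_lit 4)), .tr (.pt (nat_lit 15)) (.pt (nat_lit 4)), .tr (.pt (nat_lit 10)) (.pt (nat_lit 4)), .tr (.pt (nat_lit 11)) (.pt (nat_lit 4)), .tr (.pt (nat_lit 14)) (.pt (nat_lit 4)), .tr (.pt (nat_lit 15)) (.pt (nat_lit 4)), .tr (.pt (nat_lit 16)) (.pt (nat_lit 4)), .tr (.pt (nat_lit 24)) (.pt (nat_lit 4)), .tr (.pt (nat_lit 23)) (.pt (nat_lit 4)), .tr (.pt (nat_lit 17)) (.pt (nat_lit 4)), .tr (.pt (nat_lit 18)) (.pt (nat_lit 4)), .tr (.pt (nat_lit 27)) (.pt (nat_lit 4)), .tr (.pt (nat_lit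 22)) (.pt (nat_lit 4)), .tr (.pt (nat_lit 23)) (.pt (nat_lit 4)), .tr (.pt (nat_lit 28)) (.pt (nat_lit 4)), .tr (.pt (nat_lit 27)) (.pt (nat_lit 4)), .tr (.pt (nat_lit 30)) (.pt (nat_lit 4)), .tr (.pt (nat_lit 31)) (.pt (nat_lit 4)), .tr (.pt (nat_lit 32)) (.pt (nat_lit 4)), .tr (.pt (nat_lit 26)) (.pt (nat_lit 4)), .tr (.pt (nat_lit 34)) (.pt (nat_lit 4)), .tr (.pt (nat_lit 38)) (.pt (nat_lit 4)), .tr (.pt (nat_lit 29)) (.pt (nat_lit 4)), .tr (.pt (nat_lit 40)) (.pt (nat_lit 2)), .tr (.pt (nat_lit 34)) (.pt (nat_lit 2))])) = true := by decide +kernel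
theorem e_res {G : Type*} [Group G] [Finite G] {D : Set G} {β : ℕ → G} {A : Mdl (MulAut G) (MulAut.conj '' D) cdA}
    (h : AM D β A) {H : Subgroup (MulAut G)} (hH : A.Stab H eX eZ) (hG : ∀ a ∈ (lmap .ps eW), A.ev a ∈ H) (hT : A.ev eT ∈ H) :
    Res (H ⊓ Inn G ⊓ A.FixL []) (A.clo (lmap .ps eW)) 1024 :=
  have hH' := hH.mono (inf_le_left (b := Inn G))
  have hI := h.clo_le_inn e_lt
  have hG' : ∀ a ∈ (lmap .ps eW), A.ev a ∈ H ⊓ Inn G := fun a ha => ⟨hG a ha, hI (A.mem_clo ha)⟩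
  Mdl.step hH' (Mdl.pick_mem hG' _) e_l0 <|
  Mdl.step hH' (Mdl.pick_mem hG' _) e_l1 <|
  Mdl.step hH' (Mdl.pick_mem hG' _) e_l2 <|
  Mdl.step hH' (Mdl.pick_mem hG' _) e_l3 <|
  Mdl.stepO hH hI (Mdl.pick_mem hG _) hT (h.out_not_mem (by decide)) e_l4 <|
  Mdl.step hH (Mdl.pick_mem hG _) e_l5 <|
  Mdl.step hH (Mdl.pick_mem hG _) e_l6 <|
  Mdl.step hH (Mdl.pick_mem hG _) e_l7 <|
  Mdl.step hH (Mdl.pick_mem hG _) e_l8 <|
  Mdl.base hH _ (by decide) e_b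
theorem e_hs : Fi.lall (hsChk cdA eX eZ) (eT :: lmap .ps eW) = true := by decide +kernel
theorem e_fx : (cdA.ltL [] && cdA.allFix (lmap .ps eW) []) = true := by decide +kernel
theorem e_G {G : Type*} [Group G] [Finite G] {D : Set G} {β : ℕ → G} {A : Mdl (MulAut G) (MulAut.conj '' D) cdA}
    (h : AM D β A) :
    GH A eX eZ [] = pcl β eW ∧ Nat.card (pcl β eW) = 1024 :=
  have k := List.forall_mem_cons.1 (Mdl.all_HS (M := A) e_hs)
  h.finI e_lt k.2 e_fx (e_res h Mdl.stab_HS k.2 k.1)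
def zX : List Ex := [.mul (.w [nat_lit 32]) (.ps [nat_lit 212, nat_lit 615, nat_lit 1656, nat_lit 2604]), .ps [nat_lit 0], .ps [nat_lit 693], .ps [nat_lit 13, nat_lit 664], .ps [nat_lit 139, nat_lit 664], .ps [nat_lit 18, nat_lit 680], .ps [nat_lit 146, nat_lit 679], .ps [nat_lit 195, nat_lit 332], .ps [nat_lit 269, nat_lit 550], .ps [nat_lit 91, nat_lit 626], .ps [nat_lit 368, nat_lit 516]]
noncomputable def zZ : List ℕ := []
def zW : List (List ℕ) := [[nat_lit 693, nat_lit 0]]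
theorem z_lt : Fi.lall cdA.ltL zW = true := by decide +kernel
theorem z_l0 : cdA.lvlX [] zX zZ
    []
    (.dif (.dif (.and (.fix (nat_lit 10)) (.fix (nat_lit 4))) (.fix (nat_lit 1))) (.fix (nat_lit 0)))
    (.eq (.app (nat_lit 6) .var) (.app (nat_lit 5) .var) true (.eq (.app (nat_lit 7) .var) (.app (nat_lit 5) .var) true (.tt))) 895 [nat_lit 1145, nat_lit 1151, nat_lit 1577, nat_lit 1580, nat_lit 1581, nat_lit 1595] []
    (pick (lmap .ps zW) [nat_lit 0]) (.stk [nat_lit 1]) 2 = true := by decide +kernel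
theorem z_l1 : cdA.lvlX [nat_lit 895] zX zZ
    [.app (nat_lit 3) (.pt (nat_lit 0)), .app (nat_lit 5) (.pt (nat_lit 1)), .app (nat_lit 5) (.pt (nat_lit 1)), .app (nat_lit 9) (.pt (nat_lit 2)), .app (nat_lit 8) (.pt (nat_lit 2)), .app (nat_lit 8) (.pt (nat_lit 2))]
    (.dif (.and (.adj (nat_lit 0)) (.and (.adj (nat_lit 1)) (.and (.adj (nat_lit 2)) (.and (.adj (nat_lit 3)) (.and (.adj (nat_lit 6)) (.fix (nat_lit 2))))))) (.fix (nat_lit 1)))
    (.tt) 1 [] []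
    (pick (lmap .ps zW) []) (.simd []) 1 = true := by decide +kernel
theorem z_b : (cdA.ltL [nat_lit 1, nat_lit 895] && subL cdA.bs (cdA.ext ⟨[nat_lit 1, nat_lit 895], zX, zZ⟩
    [.app (nat_lit 0) (.pt (nat_lit 0)), .app (nat_lit 1) (.pt (nat_lit 1)), .app (nat_lit 6) (.pt (nat_lit 2)), .app (nat_lit 8) (.pt (nat_lit 3)), .app (nat_lit 9) (.pt (nat_lit 4)), .app (nat_lit 10) (.pt (nat_lit 5)), .app (nat_lit 0) (.pt (nat_lit 7)), .app (nat_lit 3) (.pt (nat_lit 6)), .app (nat_lit 8) (.pt (nat_lit 7)), .tr (.pt (nat_lit 9)) (.pt (nat_lit 7)), .tr (.pt (nat_lit 9)) (.pt (nat_lit 7)), .tr (.pt (nat_lit 6)) (.pt (nat_lit 4)), .tr (.pt (nat_lit 6)) (.pt (nat_lit 5)), .tr (.pt (nat_lit 7)) (.pt (nat_lit 5)), .tr (.pt (nat_lit 11)) (.pt (nat_lit 5)), .app (nat_lit 10) (.pt (nat_lit 4)), .app (nat_lit 7) (.pt (nat_lit 4)), .app (nat_lit 3) (.pt (nat_lit 4)), .tr (.pt (nat_lit 13)) (.pt (nat_lit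 3)), .tr (.pt (nat_lit 15)) (.pt (nat_lit 3))])) = true := by decide +kernel
theorem z_res {G : Type*} [Group G] [Finite G] {D : Set G} {β : ℕ → G} {A : Mdl (MulAut G) (MulAut.conj '' D) cdA}
    (_h : AM D β A) {H : Subgroup (MulAut G)} (hH : A.Stab H zX zZ) (hG : ∀ a ∈ (lmap .ps zW), A.ev a ∈ H) :
    Res (H ⊓ A.FixL []) (A.clo (lmap .ps zW)) 2 :=
  Mdl.step hH (Mdl.pick_mem hG _) z_l0 <|
  Mdl.step hH (Mdl.pick_mem hG _) z_l1 <|
  Mdl.base hH _ (by decide) z_b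
theorem z_hs : Fi.lall (hsChk cdA zX zZ) (lmap .ps zW) = true := by decide +kernel
theorem z_fx : (cdA.ltL [] && cdA.allFix (lmap .ps zW) []) = true := by decide +kernel
theorem z_A {G : Type*} [Group G] [Finite G] {D : Set G} {β : ℕ → G} {A : Mdl (MulAut G) (MulAut.conj '' D) cdA}
    (h : AM D β A) :
    A.HS zX zZ ⊓ A.FixL [] = A.clo (lmap .ps zW) ∧ Nat.card (A.clo (lmap .ps zW)) = 2 :=
  Mdl.fin z_hs z_fx (z_res h Mdl.stab_HS (Mdl.all_HS z_hs))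
theorem z_G {G : Type*} [Group G] [Finite G] {D : Set G} {β : ℕ → G} {A : Mdl (MulAut G) (MulAut.conj '' D) cdA}
    (h : AM D β A) :
    GH A zX zZ [] = pcl β zW ∧ Nat.card (pcl β zW) = 2 :=
  have k := Mdl.all_HS (M := A) z_hs
  h.finG z_lt k z_fx (z_res h Mdl.stab_HS k)
def vX : List Ex := [.ps [nat_lit 0], .ps [nat_lit 693], .ps [nat_lit 242, nat_lit 664], .ps [nat_lit 13, nat_lit 664], .ps [nat_lit 132, nat_lit 679], .ps [nat_lit 132, nat_lit 146], .ps [nat_lit 257, nat_lit 270], .ps [nat_lit 314, nat_lit 610], .ps [nat_lit 298, nat_lit 407], .ps [nat_lit 397, nat_lit 543]]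
noncomputable def vZ : List ℕ := []
def vW : List (List ℕ) := [[nat_lit 693], [nat_lit 0]]
theorem v_lt : Fi.lall cdA.ltL vW = true := by decide +kernel
theorem v_l0 : cdA.lvlX [] vX vZ
    []
    (.dif (.dif (.and (.fix (nat_lit 8)) (.fix (nat_lit 2))) (.fix (nat_lit 0))) (.fix (nat_lit 9)))
    (.eq (.app (nat_lit 5) .var) (.app (nat_lit 4) .var) false (.tt)) 1436 [nat_lit 1607, nat_lit 1916, nat_lit 1930, nat_lit 2313] []
    (pick (lmap .ps vW) [nat_lit 0, nat_lit 1]) (.stk [nat_lit 1, nat_lit 2, nat_lit 0, nat_lit 0, nat_lit 2]) 4 = true := by decide +kernel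
theorem v_l1 : cdA.lvlX [nat_lit 1436] vX vZ
    [.app (nat_lit 0) (.pt (nat_lit 0)), .app (nat_lit 4) (.pt (nat_lit 1)), .app (nat_lit 6) (.pt (nat_lit 2)), .app (nat_lit 7) (.pt (nat_lit 3)), .app (nat_lit 3) (.pt (nat_lit 3)), .app (nat_lit 7) (.pt (nat_lit 2)), .tr (.pt (nat_lit 3)) (.pt (nat_lit 1))]
    (.dif (.dif (.and (.adj (nat_lit 0)) (.and (.adj (nat_lit 3)) (.and (.adj (nat_lit 5)) (.and (.adj (nat_lit 6)) (.fix (nat_lit 1)))))) (.fix (nat_lit 0))) (.adj (nat_lit 1)))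
    (.tt) 1 [] []
    (pick (lmap .ps vW) []) (.simd []) 1 = true := by decide +kernel
theorem v_b : (cdA.ltL [nat_lit 1, nat_lit 1436] && subL cdA.bs (cdA.ext ⟨[nat_lit 1, nat_lit 1436], vX, vZ⟩
    [.app (nat_lit 0) (.pt (nat_lit 0)), .app (nat_lit 2) (.pt (nat_lit 1)), .app (nat_lit 3) (.pt (nat_lit 2)), .app (nat_lit 4) (.pt (nat_lit 3)), .app (nat_lit 6) (.pt (nat_lit 4)), .app (nat_lit 7) (.pt (nat_lit 5)), .app (nat_lit 0) (.pt (nat_lit 7)), .app (nat_lit 7) (.pt (nat_lit 8)), .tr (.pt (nat_lit 8)) (.pt (nat_lit 7)), .tr (.pt (nat_lit 10)) (.pt (nat_lit 7)), .app (nat_lit 7) (.pt (nat_lit 6)), .app (nat_lit 2) (.pt (nat_lit 6)), .app (nat_lit 3) (.pt (nat_lit 5)), .tr (.pt (nat_lit 9)) (.pt (nat_lit 5)), .app (nat_lit 5) (.pt (nat_lit 4)), .tr (.pt (nat_lit 16)) (.pt (nat_lit 4)), .tr (.pt (nat_lit 13)) (.pt (nat_lit 4)), .app (nat_lit 6) (.pt (nat_lit 4)), .app (nat_lit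 0) (.pt (nat_lit 4)), .app (nat_lit 6) (.pt (nat_lit 4)), .app (nat_lit 6) (.pt (nat_lit 4)), .tr (.pt (nat_lit 14)) (.pt (nat_lit 4)), .tr (.pt (nat_lit 16)) (.pt (nat_lit 3))])) = true := by decide +kernel
theorem v_res {G : Type*} [Group G] [Finite G] {D : Set G} {β : ℕ → G} {A : Mdl (MulAut G) (MulAut.conj '' D) cdA}
    (_h : AM D β A) {H : Subgroup (MulAut G)} (hH : A.Stab H vX vZ) (hG : ∀ a ∈ (lmap .ps vW), A.ev a ∈ H) :
    Res (H ⊓ A.FixL []) (A.clo (lmap .ps vW)) 4 :=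
  Mdl.step hH (Mdl.pick_mem hG _) v_l0 <|
  Mdl.step hH (Mdl.pick_mem hG _) v_l1 <|
  Mdl.base hH _ (by decide) v_b
theorem v_hs : Fi.lall (hsChk cdA vX vZ) (lmap .ps vW) = true := by decide +kernel
theorem v_fx : (cdA.ltL [] && cdA.allFix (lmap .ps vW) []) = true := by decide +kernel
theorem v_A {G : Type*} [Group G] [Finite G] {D : Set G} {β : ℕ → G} {A : Mdl (MulAut G) (MulAut.conj '' D) cdA}
    (h : AM D β A) :
    A.HS vX vZ ⊓ A.FixL [] = A.clo (lmap .ps vW) ∧ Nat.card (A.clo (lmap .ps vW)) = 4 :=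
  Mdl.fin v_hs v_fx (v_res h Mdl.stab_HS (Mdl.all_HS v_hs))
theorem v_G {G : Type*} [Group G] [Finite G] {D : Set G} {β : ℕ → G} {A : Mdl (MulAut G) (MulAut.conj '' D) cdA}
    (h : AM D β A) :
    GH A vX vZ [] = pcl β vW ∧ Nat.card (pcl β vW) = 4 :=
  have k := Mdl.all_HS (M := A) v_hs
  h.finG v_lt k v_fx (v_res h Mdl.stab_HS k)
def nX : List Ex := [.ps [nat_lit 693, nat_lit 0], .mul (.w [nat_lit 32]) (.ps [nat_lit 212, nat_lit 615, nat_lit 1656, nat_lit 2604])]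
noncomputable def nZ : List ℕ := [zf (nat_lit 1), zf (nat_lit 4), zf (nat_lit 2), zf (nat_lit 15), zf (nat_lit 5), zf (nat_lit 30), zf (nat_lit 9), zf (nat_lit 44), zf (nat_lit 46), zf (nat_lit 62), zf (nat_lit 6), zf (nat_lit 45), zf (nat_lit 35), zf (nat_lit 51), zf (nat_lit 10), zf (nat_lit 19), zf (nat_lit 59), zf (nat_lit 55), zf (nat_lit 39), zf (nat_lit 28), zf (nat_lit 27), zf (nat_lit 29), zf (nat_lit 8), zf (nat_lit 23), zf (nat_lit 43), zf (nat_lit 61), zf (nat_lit 60)]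
def nW : List (List ℕ) := [[nat_lit 0, nat_lit 693], [nat_lit 139, nat_lit 664], [nat_lit 13, nat_lit 664], [nat_lit 127, nat_lit 680], [nat_lit 107, nat_lit 109], [nat_lit 26, nat_lit 314], [nat_lit 269, nat_lit 550], [nat_lit 216, nat_lit 339], [nat_lit 440, nat_lit 584]]
def nT : Ex := .mul (.w [nat_lit 32]) (.ps [nat_lit 27, nat_lit 294, nat_lit 756, nat_lit 950])
theorem n_lt : Fi.lall cdA.ltL nW = true := by decide +kernel
theorem n_l0 : cdA.lvlX [] nX nZ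
    []
    (.dif (.and (.env (nat_lit 1)) (.env (nat_lit 0))) (.env (nat_lit 2)))
    (.tt) 10 [] []
    (pick (lmap .ps nW) [nat_lit 7, nat_lit 8]) (.stk [nat_lit 1, nat_lit 2, nat_lit 0, nat_lit 0, nat_lit 2]) 4 = true := by decide +kernel
theorem n_l1 : cdA.lvlX [nat_lit 10] nX nZ
    []
    (.dif (.and (.env (nat_lit 7)) (.env (nat_lit 0))) (.env (nat_lit 1)))
    (.tt) 13 [] []
    (pick (lmap .ps nW) [nat_lit 5, nat_lit 6]) (.stk [nat_lit 1, nat_lit 2, nat_lit 0, nat_lit 0, nat_lit 2]) 4 = true := by decide +kernel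
theorem n_l2 : cdA.lvlX [nat_lit 13, nat_lit 10] nX nZ
    []
    (.dif (.and (.env (nat_lit 11)) (.env (nat_lit 9))) (.env (nat_lit 0)))
    (.tt) 21 [] []
    (pick (lmap .ps nW) [nat_lit 3, nat_lit 4]) (.stk [nat_lit 1, nat_lit 2, nat_lit 0, nat_lit 0, nat_lit 2]) 4 = true := by decide +kernel
theorem n_l3 : cdA.lvlX [nat_lit 21, nat_lit 13, nat_lit 10] nX nZ
    []
    (.dif (.and (.env (nat_lit 9)) (.env (nat_lit 4))) (.env (nat_lit 0)))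
    (.tt) 26 [] []
    (pick (lmap .ps nW) [nat_lit 1, nat_lit 2]) (.stk [nat_lit 1, nat_lit 2, nat_lit 0, nat_lit 0, nat_lit 2]) 4 = true := by decide +kernel
theorem n_l4 : lvlO cdA [nat_lit 26, nat_lit 21, nat_lit 13, nat_lit 10] nX nZ
    []
    (.and (.env (nat_lit 2)) (.env (nat_lit 0)))
    (.tt) 0 []
    (pick (lmap .ps nW) []) (.simd []) 1 nT = true := by decide +kernel
theorem n_l5 : cdA.lvlX [nat_lit 0, nat_lit 26, nat_lit 21, nat_lit 13, nat_lit 10] nX nZ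
    [.app (nat_lit 1) (.pt (nat_lit 0))]
    (.dif (.and (.adj (nat_lit 5)) (.and (.adj (nat_lit 0)) (.and (.adj (nat_lit 3)) (.and (.adj (nat_lit 4)) (.adj (nat_lit 2)))))) (.env (nat_lit 0)))
    (.tt) 212 [] []
    (pick (lmap .ps nW) [nat_lit 0]) (.stk [nat_lit 1]) 2 = true := by decide +kernel
theorem n_l6 : cdA.lvlX [nat_lit 212, nat_lit 0, nat_lit 26, nat_lit 21, nat_lit 13, nat_lit 10] nX nZ
    []
    (.dif (.and (.adj (nat_lit 0)) (.and (.env (nat_lit 7)) (.env (nat_lit 3)))) (.env (nat_lit 0)))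
    (.tt) 49 [] []
    (pick (lmap .ps nW) []) (.simd []) 1 = true := by decide +kernel
theorem n_l7 : cdA.lvlX [nat_lit 49, nat_lit 212, nat_lit 0, nat_lit 26, nat_lit 21, nat_lit 13, nat_lit 10] nX nZ
    [.app (nat_lit 1) (.pt (nat_lit 1)), .tr (.pt (nat_lit 1)) (.pt (nat_lit 5)), .tr (.pt (nat_lit 1)) (.pt (nat_lit 0))]
    (.dif (.and (.adj (nat_lit 0)) (.and (.env (nat_lit 17)) (.env (nat_lit 7)))) (.env (nat_lit 0)))
    (.tt) 39 [] []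
    (pick (lmap .ps nW) []) (.simd []) 1 = true := by decide +kernel
theorem n_b : (cdA.ltL [nat_lit 39, nat_lit 49, nat_lit 212, nat_lit 0, nat_lit 26, nat_lit 21, nat_lit 13, nat_lit 10] && subL cdA.bs (cdA.ext ⟨[nat_lit 39, nat_lit 49, nat_lit 212, nat_lit 0, nat_lit 26, nat_lit 21, nat_lit 13, nat_lit 10], nX, nZ⟩
    [.app (nat_lit 1) (.pt (nat_lit 0)), .app (nat_lit 1) (.pt (nat_lit 2)), .app (nat_lit 0) (.pt (nat_lit 4)), .app (nat_lit 1) (.pt (nat_lit 5)), .tr (.pt (nat_lit 4)) (.pt (nat_lit 8)), .tr (.pt (nat_lit 6)) (.pt (nat_lit 9)), .tr (.pt (nat_lit 6)) (.pt (nat_lit 11)), .tr (.pt (nat_lit 9)) (.pt (nat_lit 6)), .tr (.pt (nat_lit 12)) (.pt (nat_lit 7)), .tr (.pt (nat_lit 10)) (.pt (nat_lit 4)), .tr (.pt (nat_lit 15)) (.pt (nat_lit 4)), .tr (.pt (nat_lit 7)) (.pt (nat_lit 4)), .tr (.pt (nat_lit 19)) (.pt (nat_lit 4)), .tr (.pt (nat_lit 11)) (.pt (nat_lit 4)), .tr (.pt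 (nat_lit 19)) (.pt (nat_lit 4)), .tr (.pt (nat_lit 21)) (.pt (nat_lit 4)), .tr (.pt (nat_lit 15)) (.pt (nat_lit 4)), .tr (.pt (nat_lit 13)) (.pt (nat_lit 4)), .tr (.pt (nat_lit 23)) (.pt (nat_lit 4)), .tr (.pt (nat_lit 17)) (.pt (nat_lit 4)), .tr (.pt (nat_lit 19)) (.pt (nat_lit 4)), .tr (.pt (nat_lit 28)) (.pt (nat_lit 4)), .tr (.pt (nat_lit 18)) (.pt (nat_lit 3)), .tr (.pt (nat_lit 25)) (.pt (nat_lit 3)), .tr (.pt (nat_lit 21)) (.pt (nat_lit 3)), .tr (.pt (nat_lit 22)) (.pt (nat_lit 3)), .tr (.pt (nat_lit 22)) (.pt (nat_lit 2)), .tr (.pt (nat_lit 23)) (.pt (nat_lit 2)), .app (nat_lit 0) (.pt (nat_lit 1))])) = true := by decide +kernel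
theorem n_res {G : Type*} [Group G] [Finite G] {D : Set G} {β : ℕ → G} {A : Mdl (MulAut G) (MulAut.conj '' D) cdA}
    (h : AM D β A) {H : Subgroup (MulAut G)} (hH : A.Stab H nX nZ) (hG : ∀ a ∈ (lmap .ps nW), A.ev a ∈ H) (hT : A.ev nT ∈ H) :
    Res (H ⊓ Inn G ⊓ A.FixL []) (A.clo (lmap .ps nW)) 512 :=
  have hH' := hH.mono (inf_le_left (b := Inn G))
  have hI := h.clo_le_inn n_lt
  have hG' : ∀ a ∈ (lmap .ps nW), A.ev a ∈ H ⊓ Inn G := fun a ha => ⟨hG a ha, hI (A.mem_clo ha)⟩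
  Mdl.step hH' (Mdl.pick_mem hG' _) n_l0 <|
  Mdl.step hH' (Mdl.pick_mem hG' _) n_l1 <|
  Mdl.step hH' (Mdl.pick_mem hG' _) n_l2 <|
  Mdl.step hH' (Mdl.pick_mem hG' _) n_l3 <|
  Mdl.stepO hH hI (Mdl.pick_mem hG _) hT (h.out_not_mem (by decide)) n_l4 <|
  Mdl.step hH (Mdl.pick_mem hG _) n_l5 <|
  Mdl.step hH (Mdl.pick_mem hG _) n_l6 <|
  Mdl.step hH (Mdl.pick_mem hG _) n_l7 <|
  Mdl.base hH _ (by decide) n_b
theorem n_hs : Fi.lall (hsChk cdA nX nZ) (nT :: lmap .ps nW) = true := by decide +kernel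
theorem n_fx : (cdA.ltL [] && cdA.allFix (lmap .ps nW) []) = true := by decide +kernel
theorem n_G {G : Type*} [Group G] [Finite G] {D : Set G} {β : ℕ → G} {A : Mdl (MulAut G) (MulAut.conj '' D) cdA}
    (h : AM D β A) :
    GH A nX nZ [] = pcl β nW ∧ Nat.card (pcl β nW) = 512 :=
  have k := List.forall_mem_cons.1 (Mdl.all_HS (M := A) n_hs)
  h.finI n_lt k.2 n_fx (n_res h Mdl.stab_HS k.2 k.1)
theorem lab : lall2 (labChk cdA (2 ^ 6) zm zf (rfw 2 6 ql6) (rwOk 2 ql6)) (cT :: lmap .ps cW)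
    [[],
     [],
     [(nat_lit 1, nat_lit 32), (nat_lit 1, nat_lit 16), (nat_lit 1, nat_lit 13), (nat_lit 1, nat_lit 12), (nat_lit 1, nat_lit 7), (nat_lit 1, nat_lit 3)],
     [(nat_lit 1, nat_lit 32), (nat_lit 1, nat_lit 16), (nat_lit 1, nat_lit 13), (nat_lit 1, nat_lit 12), (nat_lit 1, nat_lit 7), (nat_lit 1, nat_lit 3)],
     [],
     [(nat_lit 1, nat_lit 33), (nat_lit 1, nat_lit 32), (nat_lit 1, nat_lit 13), (nat_lit 1, nat_lit 12)],
     [(nat_lit 1, nat_lit 33)],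
     [(nat_lit 1, nat_lit 17), (nat_lit 1, nat_lit 16), (nat_lit 1, nat_lit 13), (nat_lit 1, nat_lit 12)],
     [(nat_lit 1, nat_lit 57), (nat_lit 1, nat_lit 42), (nat_lit 1, nat_lit 20), (nat_lit 1, nat_lit 7)]] = true := by decide +kernel
def cjW : List ℕ := [nat_lit 2655, nat_lit 1342, nat_lit 49, nat_lit 87, nat_lit 180, nat_lit 2840, nat_lit 2886]

end Cfsg.Agent.FA.A73
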